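import Groth.Agent.SGA7.K497.TrMul

/-!
# Layers of a Barsotti-Tate system: trace ideals and cotangent spaces at the unit

* `infN`, `ker_res` : the exact sequences `0 → G_n → G_(n+1) → G_1 → 0`;
* `nPow` : the node `NPow`;
* `pow_smul_mem` : `p ^ n` kills the cotangent space of `B n`;
* `exists_sub_mem` : the kernel of `ω_(n+1) → ω_n` is `p ^ n ω_(n+1)`.
-/

set_option autoImplicit false
universe u

open TensorProduct K564.Tate K497.TrInt

namespace K497.Layers

section conv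

variable {R B : Type u} [CommRing R] [CommRing B] [HopfAlgebra R B]

/-- The augmentation ideal. -/
abbrev aug (R B : Type u) [CommRing R] [CommRing B] [HopfAlgebra R B] : Ideal B :=
  RingHom.ker (Bialgebra.counitAlgHom R B)

theorem mem_aug {x : B} : x ∈ aug R B ↔ Coalgebra.counit (R := R) x = 0 := Iff.rfl

theorem sub_mem_aug (x : B) : x - algebraMap R B (Coalgebra.counit (R := R) x) ∈ aug R B := by
  rw [mem_aug, map_sub, Bialgebra.counit_algebraMap, sub_self]

/-- Products of linear maps for the convolution are sums on the cotangent space. -/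
theorem conv_sub_mem (a b : B →ₗ[R] B) (ha : ∀ x ∈ aug R B, a x ∈ aug R B) (hb : ∀ x ∈ aug R B, b x ∈ aug R B)
    (ha1 : a 1 = 1) (hb1 : b 1 = 1) {x : B} (hx : x ∈ aug R B) :
    LinearMap.mul' R B (TensorProduct.map a b (Coalgebra.comul (R := R) x)) - (a x + b x) ∈ aug R B ^ 2 := by
  have h1 : ∀ z : B ⊗[R] B, LinearMap.mul' R B (TensorProduct.map a b z) -
      (a (TensorProduct.rid R B ((Coalgebra.counit (R := R) (A := B)).lTensor B z)) +
        b (TensorProduct.lid R B ((Coalgebra.counit (R := R) (A := B)).rTensor B z))) +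
      algebraMap R B (Coalgebra.counit (R := R) (TensorProduct.rid R B ((Coalgebra.counit (R := R) (A := B)).lTensor B z)))
        ∈ aug R B ^ 2 := by
    intro z
    induction z using TensorProduct.induction_on with
    | zero => simp
    | add u v hu hv =>
      have := (aug R B ^ 2).add_mem hu hv
      simp only [map_add]
      convert this using 1
      ring
    | tmul u v =>
      have h2 : a (u - algebraMap R B (Coalgebra.counit (R := R) u)) *
          b (v - algebraMap R B (Coalgebra.counit (R := R) v)) ∈ aug R B ^ 2 := by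
        rw [pow_two]
        exact Ideal.mul_mem_mul (ha _ (sub_mem_aug u)) (hb _ (sub_mem_aug v))
      have h3 : ∀ r : R, a (algebraMap R B r) = algebraMap R B r := fun r => by
        rw [Algebra.algebraMap_eq_smul_one, map_smul, ha1]
      have h4 : ∀ r : R, b (algebraMap R B r) = algebraMap R B r := fun r => by
        rw [Algebra.algebraMap_eq_smul_one, map_smul, hb1]
      rw [map_sub, map_sub, h3, h4] at h2
      convert h2 using 1
      rw [TensorProduct.map_tmul, LinearMap.mul'_apply, LinearMap.lTensor_tmul, LinearMap.rTensor_tmul,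
        TensorProduct.rid_tmul, TensorProduct.lid_tmul, map_smul, map_smul, map_smul, smul_eq_mul, map_mul,
        Algebra.smul_def, Algebra.smul_def]
      ring
  have h2 := h1 (Coalgebra.comul (R := R) x)
  rw [Coalgebra.rTensor_counit_comul, Coalgebra.lTensor_counit_comul] at h2
  simp only [TensorProduct.rid_tmul, TensorProduct.lid_tmul, one_smul] at h2
  rw [mem_aug.1 hx, map_zero, add_zero] at h2
  exact h2

theorem bialgHom_mem_aug {B' : Type u} [CommRing B'] [HopfAlgebra R B'] (f : B →ₐc[R] B') {x : B} (hx : x ∈ aug R B) :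
    f x ∈ aug R B' := by
  rw [mem_aug, CoalgHomClass.counit_comp_apply]
  exact hx

/-- The `k`-th convolution power of the identity is multiplication by `k` on the cotangent space. -/
theorem pow_id_sub_mem [Coalgebra.IsCocomm R B] (k : ℕ) {x : B} (hx : x ∈ aug R B) :
    ((WithConv.toConv (BialgHom.id R B)) ^ k).ofConv x - (k : R) • x ∈ aug R B ^ 2 := by
  induction k with
  | zero =>
    rw [pow_zero, Nat.cast_zero, zero_smul, sub_zero]
    change algebraMap R B (Coalgebra.counit (R := R) x) ∈ _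
    rw [mem_aug.1 hx, map_zero]
    exact Ideal.zero_mem _
  | succ k ih =>
    rw [pow_succ (WithConv.toConv (BialgHom.id R B)) k]
    have h1 := conv_sub_mem (R := R) (((WithConv.toConv (BialgHom.id R B)) ^ k).ofConv : B →ₗ[R] B)
      (LinearMap.id) (fun y hy => bialgHom_mem_aug _ hy) (fun y hy => hy)
      (map_one ((WithConv.toConv (BialgHom.id R B)) ^ k).ofConv) rfl hx
    have h2 : (((WithConv.toConv (BialgHom.id R B)) ^ k) * WithConv.toConv (BialgHom.id R B)).ofConv x =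
        LinearMap.mul' R B (TensorProduct.map (((WithConv.toConv (BialgHom.id R B)) ^ k).ofConv : B →ₗ[R] B)
          (LinearMap.id) (Coalgebra.comul (R := R) x)) := by
      have h3 := BialgHom.toLinearMap_convMul ((WithConv.toConv (BialgHom.id R B)) ^ k)
        (WithConv.toConv (BialgHom.id R B))
      have h4 := congrArg (fun w : WithConv (B →ₗ[R] B) => w.ofConv x) h3
      exact h4
    rw [h2]
    have h5 := (aug R B ^ 2).add_mem h1 ih
    convert h5 using 1
    rw [Nat.cast_succ, add_smul, one_smul]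
    change _ = _ - (((WithConv.toConv (BialgHom.id R B)) ^ k).ofConv x + x) + _
    ring

end conv

section sys

variable {R : Type u} [CommRing R] [IsDomain R] [IsDiscreteValuationRing R] [CharZero R] {p h : ℕ} (Φ : Sys R p h)

omit [IsDomain R] [IsDiscreteValuationRing R] [CharZero R] in
theorem res_inf_comm (n : ℕ) (x : Φ.B (n + 1)) : Φ.res (n + 1) (Φ.inf (n + 1) x) = Φ.inf n (Φ.res n x) := by
  have h1 : (Φ.res (n + 1)).comp (Φ.inf (n + 1)) = (Φ.inf n).comp (Φ.res n) := by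
    rw [Φ.res_inf, Φ.inf_res]
  exact congrArg (fun w : Φ.B (n + 1) →ₐc[R] Φ.B (n + 1) => w x) h1

/-- The iterated inflation `B 1 → B (n + 1)`. -/
noncomputable def infN : ∀ n, Φ.B 1 →ₐc[R] Φ.B (n + 1)
  | 0 => BialgHom.id R (Φ.B 1)
  | n + 1 => (Φ.inf (n + 1)).comp (infN n)

omit [IsDomain R] [IsDiscreteValuationRing R] [CharZero R] in
theorem infN_succ (n : ℕ) (x : Φ.B 1) : infN Φ (n + 1) x = Φ.inf (n + 1) (infN Φ n x) := rfl

omit [IsDomain R] [IsDiscreteValuationRing R] [CharZero R] in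
theorem infN_injective (n : ℕ) : Function.Injective (infN Φ n) := by
  induction n with
  | zero => exact fun x y h => h
  | succ n ih => exact fun x y h => ih (Φ.inf_inj _ h)

omit [IsDomain R] [IsDiscreteValuationRing R] [CharZero R] in
theorem infN_sat (n : ℕ) (r : R) (b : Φ.B (n + 1)) (hr : r ≠ 0) (hb : ∃ a, infN Φ n a = r • b) :
    ∃ a, infN Φ n a = b := by
  induction n with
  | zero =>
    exact ⟨b, rfl⟩
  | succ n ih =>
    obtain ⟨a, ha⟩ := hb
    rw [infN_succ] at ha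
    obtain ⟨a', ha'⟩ := Φ.inf_sat (n + 1) r b hr ⟨_, ha⟩
    rw [← ha', ← map_smul] at ha
    obtain ⟨a'', ha''⟩ := ih a' ⟨a, Φ.inf_inj _ ha⟩
    exact ⟨a'', by rw [infN_succ, ha'', ha']⟩

omit [IsDiscreteValuationRing R] [CharZero R] in
theorem eq_algebraMap (x : Φ.B 0) : x = algebraMap R (Φ.B 0) (Coalgebra.counit (R := R) x) := by
  have h1 : Module.finrank R (Φ.B 0) = 1 := by rw [Φ.rank, zero_mul, pow_zero]
  have : Nontrivial (Φ.B 0) := by
    refine ⟨0, 1, fun h => ?_⟩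
    have := congrArg (Coalgebra.counit (R := R) (A := Φ.B 0)) h
    rw [map_zero, Bialgebra.counit_one] at this
    exact zero_ne_one this
  obtain ⟨r, hr⟩ := (Module.Free.bijective_algebraMap_of_finrank_eq_one h1).2 x
  rw [← hr, Bialgebra.counit_algebraMap]

omit [IsDiscreteValuationRing R] [CharZero R] in
theorem res_infN (n : ℕ) (x : Φ.B 1) :
    Φ.res n (infN Φ n x) = algebraMap R (Φ.B n) (Coalgebra.counit (R := R) x) := by
  induction n with
  | zero =>
    rw [eq_algebraMap Φ (Φ.res 0 (infN Φ 0 x)), CoalgHomClass.counit_comp_apply]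
    rfl
  | succ n ih =>
    rw [infN_succ, res_inf_comm, ih, AlgHomClass.commutes]

omit [IsDiscreteValuationRing R] [CharZero R] [IsDomain R] in
theorem rank_succ (n : ℕ) :
    Module.finrank R (Φ.B (n + 1)) = Module.finrank R (Φ.B n) * Module.finrank R (Φ.B 1) := by
  rw [Φ.rank, Φ.rank, Φ.rank, ← pow_add]
  congr 1
  ring

theorem trI_succ (n : ℕ) : trI R (Φ.B (n + 1)) = trI R (Φ.B n) * trI R (Φ.B 1) :=
  TrMul.trI_mul (infN_injective Φ n) (fun r b hr hb => infN_sat Φ n r b hr hb) (Φ.res_surj n) (rank_succ Φ n)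
    (res_infN Φ n)

theorem trI_pow (n : ℕ) : trI R (Φ.B n) = trI R (Φ.B 1) ^ n := by
  induction n with
  | zero =>
    rw [pow_zero, Ideal.one_eq_top, Ideal.eq_top_iff_one]
    refine ⟨1, ?_⟩
    rw [TrMul.trace_one, Φ.rank, zero_mul, pow_zero, Nat.cast_one]
  | succ n ih => rw [trI_succ, ih, pow_succ]

theorem ker_res (n : ℕ) (x : Φ.B (n + 1)) (hx : Φ.res n x = 0) :
    x ∈ Ideal.map (infN Φ n : Φ.B 1 →+* Φ.B (n + 1)) (aug R (Φ.B 1)) :=
  TrMul.ker_eq (infN_injective Φ n) (fun r b hr hb => infN_sat Φ n r b hr hb) (Φ.res_surj n) (rank_succ Φ n)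
    (res_infN Φ n) x hx

end sys

theorem nPow : NPow.{u} := by
  intro R _ _ _ _ p h Φ n
  exact trI_pow Φ n

section cot

variable {R : Type u} [CommRing R] {p h : ℕ} (Φ : Sys R p h)

theorem inf_sq (n : ℕ) {x : Φ.B n} (hx : x ∈ aug R (Φ.B n) ^ 2) : Φ.inf n x ∈ aug R (Φ.B (n + 1)) ^ 2 := by
  have h1 : Ideal.map (Φ.inf n : Φ.B n →+* Φ.B (n + 1)) (aug R (Φ.B n) ^ 2) ≤ aug R (Φ.B (n + 1)) ^ 2 := by
    rw [Ideal.map_pow]
    refine Ideal.pow_right_mono ?_ 2
    rw [Ideal.map_le_iff_le_comap]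
    exact fun y hy => bialgHom_mem_aug (Φ.inf n) hy
  exact h1 (Ideal.mem_map_of_mem _ hx)

theorem res_sq (n : ℕ) {x : Φ.B (n + 1)} (hx : x ∈ aug R (Φ.B (n + 1)) ^ 2) : Φ.res n x ∈ aug R (Φ.B n) ^ 2 := by
  have h1 : Ideal.map (Φ.res n : Φ.B (n + 1) →+* Φ.B n) (aug R (Φ.B (n + 1)) ^ 2) ≤ aug R (Φ.B n) ^ 2 := by
    rw [Ideal.map_pow]
    refine Ideal.pow_right_mono ?_ 2
    rw [Ideal.map_le_iff_le_comap]
    exact fun y hy => bialgHom_mem_aug (Φ.res n) hy
  exact h1 (Ideal.mem_map_of_mem _ hx)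

theorem exists_res_aug (n : ℕ) {y : Φ.B n} (hy : y ∈ aug R (Φ.B n)) : ∃ x ∈ aug R (Φ.B (n + 1)), Φ.res n x = y := by
  obtain ⟨x, rfl⟩ := Φ.res_surj n y
  refine ⟨x, ?_, rfl⟩
  rw [mem_aug, CoalgHomClass.counit_comp_apply] at hy
  exact hy

theorem exists_res_sq (n : ℕ) {y : Φ.B n} (hy : y ∈ aug R (Φ.B n) ^ 2) :
    ∃ x ∈ aug R (Φ.B (n + 1)) ^ 2, Φ.res n x = y := by
  have h1 : Ideal.map (Φ.res n : Φ.B (n + 1) →+* Φ.B n) (aug R (Φ.B (n + 1))) = aug R (Φ.B n) := by
    apply le_antisymm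
    · rw [Ideal.map_le_iff_le_comap]
      exact fun y hy => bialgHom_mem_aug (Φ.res n) hy
    · intro y hy
      obtain ⟨x, hx, rfl⟩ := exists_res_aug Φ n hy
      exact Ideal.mem_map_of_mem _ hx
  rw [← h1, ← Ideal.map_pow] at hy
  exact (Ideal.mem_map_iff_of_surjective (Φ.res n : Φ.B (n + 1) →+* Φ.B n) (Φ.res_surj n)).1 hy

theorem inf_res_sub_mem (n : ℕ) {x : Φ.B (n + 1)} (hx : x ∈ aug R (Φ.B (n + 1))) :
    Φ.inf n (Φ.res n x) - (p : R) • x ∈ aug R (Φ.B (n + 1)) ^ 2 := by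
  have h1 := congrArg (fun w : Φ.B (n + 1) →ₐc[R] Φ.B (n + 1) => w x) (Φ.inf_res n)
  change Φ.inf n (Φ.res n x) = _ at h1
  rw [h1]
  exact pow_id_sub_mem p hx

theorem sub_trans {B : Type u} [CommRing B] {I : Ideal B} {x y z : B} (h1 : x - y ∈ I) (h2 : y - z ∈ I) :
    x - z ∈ I := by
  have := I.add_mem h1 h2
  rwa [sub_add_sub_cancel] at this

theorem smul_mem' {B : Type u} [CommRing B] [Algebra R B] {I : Ideal B} (r : R) {x : B} (h1 : x ∈ I) : r • x ∈ I := by
  rw [Algebra.smul_def]; exact I.mul_mem_left _ h1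

/-- `p ^ n` kills the cotangent space of `B n`. -/
theorem pow_smul_mem [IsDomain R] (n : ℕ) : ∀ {x : Φ.B n}, x ∈ aug R (Φ.B n) →
    ((p : R) ^ n) • x ∈ aug R (Φ.B n) ^ 2 := by
  induction n with
  | zero =>
    intro x hx
    rw [eq_algebraMap Φ x, mem_aug.1 hx, map_zero, smul_zero]
    exact Ideal.zero_mem _
  | succ n ih =>
    intro x hx
    have h1 := inf_sq Φ n (ih (bialgHom_mem_aug (Φ.res n) hx))
    rw [map_smul] at h1
    have h2 := smul_mem' ((p : R) ^ n) (inf_res_sub_mem Φ n hx)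
    rw [smul_sub, smul_smul, ← pow_succ] at h2
    have h3 := (aug R (Φ.B (n + 1)) ^ 2).sub_mem h1 h2
    rwa [sub_sub_cancel] at h3

theorem infN_cot (n : ℕ) {a : Φ.B 1} (ha : a ∈ aug R (Φ.B 1)) :
    ∃ y ∈ aug R (Φ.B (n + 1)), infN Φ n a - ((p : R) ^ n) • y ∈ aug R (Φ.B (n + 1)) ^ 2 := by
  induction n with
  | zero =>
    refine ⟨a, ha, ?_⟩
    rw [pow_zero, one_smul]
    change a - a ∈ _
    rw [sub_self]; exact Ideal.zero_mem _
  | succ n ih =>
    obtain ⟨y, hy, hy2⟩ := ih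
    obtain ⟨x, hx, rfl⟩ := exists_res_aug Φ (n + 1) hy
    refine ⟨x, hx, ?_⟩
    have h1 := inf_sq Φ (n + 1) hy2
    rw [map_sub, map_smul, ← infN_succ] at h1
    have h2 := smul_mem' ((p : R) ^ n) (inf_res_sub_mem Φ (n + 1) hx)
    rw [smul_sub, smul_smul, ← pow_succ] at h2
    exact sub_trans h1 h2

/-- The kernel of `ω_(n+1) → ω_n` is `p ^ n ω_(n+1)`. -/
theorem exists_sub_mem [IsDomain R] [IsDiscreteValuationRing R] [CharZero R] (n : ℕ) {x : Φ.B (n + 1)}
    (hr : Φ.res n x ∈ aug R (Φ.B n) ^ 2) :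
    ∃ y ∈ aug R (Φ.B (n + 1)), x - ((p : R) ^ n) • y ∈ aug R (Φ.B (n + 1)) ^ 2 := by
  obtain ⟨z, hz, hzx⟩ := exists_res_sq Φ n hr
  have h1 : x - z ∈ Ideal.map (infN Φ n : Φ.B 1 →+* Φ.B (n + 1)) (aug R (Φ.B 1)) :=
    ker_res Φ n _ (by rw [map_sub, hzx, sub_self])
  have key : ∀ w ∈ Ideal.map (infN Φ n : Φ.B 1 →+* Φ.B (n + 1)) (aug R (Φ.B 1)),
      w ∈ aug R (Φ.B (n + 1)) ∧
      ∃ y ∈ aug R (Φ.B (n + 1)), w - ((p : R) ^ n) • y ∈ aug R (Φ.B (n + 1)) ^ 2 := by
    intro w hw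
    refine Submodule.span_induction ?_ ?_ (fun a b _ _ ha hb => ?_) (fun b w _ hw => ?_) hw
    · rintro _ ⟨a, ha, rfl⟩
      exact ⟨bialgHom_mem_aug (infN Φ n) ha, infN_cot Φ n ha⟩
    · exact ⟨Ideal.zero_mem _, 0, Ideal.zero_mem _, by rw [smul_zero, sub_zero]; exact Ideal.zero_mem _⟩
    · obtain ⟨ha1, ya, hya, hya2⟩ := ha
      obtain ⟨hb1, yb, hyb, hyb2⟩ := hb
      refine ⟨Ideal.add_mem _ ha1 hb1, ya + yb, Ideal.add_mem _ hya hyb, ?_⟩
      have := Ideal.add_mem _ hya2 hyb2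
      rw [smul_add]
      convert this using 1
      ring
    · obtain ⟨hw1, y, hy, hy2⟩ := hw
      refine ⟨Ideal.mul_mem_left _ _ hw1, Coalgebra.counit (R := R) b • y, smul_mem' _ hy, ?_⟩
      have h3 : (b - algebraMap R _ (Coalgebra.counit (R := R) b)) * w ∈ aug R (Φ.B (n + 1)) ^ 2 := by
        rw [pow_two]; exact Ideal.mul_mem_mul (sub_mem_aug b) hw1
      have h4 := Ideal.add_mem _ h3 (smul_mem' (Coalgebra.counit (R := R) b) hy2)
      convert h4 using 1
      rw [smul_eq_mul, smul_sub, smul_comm, Algebra.smul_def (Coalgebra.counit (R := R) b) w]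
      ring
  obtain ⟨-, y, hy, hy2⟩ := key _ h1
  refine ⟨y, hy, ?_⟩
  have := Ideal.add_mem _ hy2 hz
  convert this using 1
  ring

end cot

end K497.Layers
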