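import Groth.Agent.SGA7.K497.TrInt2
import Groth.Agent.SGA7.K564.Tate.Iface
import Mathlib.RingTheory.Nakayama

/-!
# Trace ideals of finite free Hopf algebras: the nodes `NLe`, `NEq`, `NDual`, `NLen`
-/

set_option autoImplicit false
universe u

open TensorProduct CartDual K564.Tate K497.TrInt

namespace K497.TrNodes

section generic

variable {R B' B : Type u} [CommRing R] [IsDomain R] [CommRing B'] [Algebra R B'] [Module.Finite R B']
  [Module.Free R B'] [CommRing B] [Algebra R B] [Module.Finite R B] [Module.Free R B]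

omit [Module.Finite R B'] [Module.Free R B'] in
theorem exists_inv (f : B' →ₐ[R] B) (ht : ∀ b : B, ∃ r : R, r ≠ 0 ∧ ∃ a, f a = r • b) :
    ∃ (r : R) (g : B →ₗ[R] B'), r ≠ 0 ∧ ∀ b, f (g b) = r • b := by
  classical
  let e := Module.Free.chooseBasis R B
  choose r hr a ha using fun i => ht (e i)
  refine ⟨∏ i, r i, e.constr R (fun i => (∏ j ∈ Finset.univ.erase i, r j) • a i),
    Finset.prod_ne_zero_iff.2 fun i _ => hr i, fun b => ?_⟩
  have : (f.toLinearMap ∘ₗ e.constr R (fun i => (∏ j ∈ Finset.univ.erase i, r j) • a i)) =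
      (∏ i, r i) • LinearMap.id := by
    refine e.ext fun i => ?_
    rw [LinearMap.comp_apply, Module.Basis.constr_basis, LinearMap.smul_apply, LinearMap.id_apply,
      AlgHom.toLinearMap_apply, map_smul, ha, smul_smul, Finset.prod_erase_mul _ _ (Finset.mem_univ i)]
  exact LinearMap.congr_fun this b

theorem trace_map (f : B' →ₐ[R] B) (hf : Function.Injective f)
    (ht : ∀ b : B, ∃ r : R, r ≠ 0 ∧ ∃ a, f a = r • b) (x : B') :
    Algebra.trace R B (f x) = Algebra.trace R B' x := by
  obtain ⟨r, g, hr, hg⟩ := exists_inv f ht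
  have hg' : ∀ a, g (f a) = r • a := by
    intro a
    apply hf
    rw [hg, map_smul]
  have h1 : (LinearMap.mulLeft R x ∘ₗ g) ∘ₗ f.toLinearMap = r • LinearMap.mulLeft R x := by
    ext a
    simp [hg']
  have h2 : f.toLinearMap ∘ₗ (LinearMap.mulLeft R x ∘ₗ g) = r • LinearMap.mulLeft R (f x) := by
    ext b
    simp [hg]
  have h3 := LinearMap.trace_comp_comm' f.toLinearMap (LinearMap.mulLeft R x ∘ₗ g)
  rw [h1, h2, map_smul, map_smul, smul_eq_mul, smul_eq_mul] at h3
  exact mul_left_cancel₀ hr (by rw [Algebra.trace_apply, Algebra.trace_apply]; exact h3.symm)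

end generic

theorem nLe : NLe.{u} := by
  intro R _ _ _ _ B' B _ _ _ _ _ _ _ _ _ _ f hf ht
  rintro _ ⟨x, rfl⟩
  exact ⟨f x, trace_map f hf ht x⟩

theorem nEq : NEq.{u} := by
  intro R _ _ _ _ B' B _ _ _ _ _ _ _ _ _ _ f hf ht hle
  obtain ⟨l, t, hlt⟩ := exists_isInt (R := R) (B := B) finrank_ne_zero
  obtain ⟨r, g, hr, hg⟩ := exists_inv f ht
  have ha0 : Coalgebra.counit (R := R) t ≠ 0 := by
    intro h0
    have h1 := hlt.trace_eq 1
    have h2 := Algebra.trace_algebraMap (R := R) (S := B) (1 : R)
    rw [map_one] at h2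
    rw [h2, h0, zero_mul] at h1
    exact finrank_ne_zero (R := R) (B := B) (by simpa using h1)
  have h1 : Algebra.trace R B' = Coalgebra.counit (R := R) t • (l ∘ₗ f.toLinearMap) := by
    ext x
    rw [LinearMap.smul_apply, LinearMap.comp_apply, AlgHom.toLinearMap_apply, smul_eq_mul, ← hlt.trace_eq,
      trace_map f hf ht]
  have hinv : Inv (l ∘ₗ f.toLinearMap) := by
    refine Inv.of_smul (a := Coalgebra.counit (R := R) t) (fun x hx => ?_) (h1 ▸ inv_trace)
    exact (smul_eq_zero.1 hx).resolve_left ha0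
  have h2 : Coalgebra.counit (R := R) t ∈ trI R B' := hle ⟨t, hlt.trace_t⟩
  obtain ⟨u, hu⟩ := h2
  have hu1 : (l ∘ₗ f.toLinearMap) u = 1 := by
    rw [h1, LinearMap.smul_apply, smul_eq_mul] at hu
    exact mul_left_cancel₀ ha0 (hu.trans (mul_one _).symm)
  intro b
  obtain ⟨x, hx⟩ := perfect hinv hu1 (l ∘ₗ (LinearMap.mulRight R b) ∘ₗ f.toLinearMap)
  refine ⟨x, ?_⟩
  rw [← sub_eq_zero]
  refine eq_zero_of hlt.inv hlt.one fun c => ?_
  have h3 := hx (g c)
  simp only [LinearMap.comp_apply, AlgHom.toLinearMap_apply, map_mul, hg, LinearMap.mulRight_apply] at h3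
  have h4 : r • (l (c * (f x - b))) = 0 := by
    rw [← map_smul, ← smul_mul_assoc, mul_sub, map_sub, h3, sub_self]
  exact (smul_eq_zero.1 h4).resolve_left hr

section dual

variable {R B : Type u} [CommRing R] [IsDomain R] [IsDiscreteValuationRing R] [CharZero R] [CommRing B]
  [HopfAlgebra R B] [Coalgebra.IsCocomm R B] [Module.Finite R B] [Module.Free R B]

omit [IsDomain R] [IsDiscreteValuationRing R] [CharZero R] [Coalgebra.IsCocomm R B] in
theorem exists_rep (ψ : D R B →ₗ[R] R) : ∃ τ : B, ∀ φ : D R B, ψ φ = φ.ofConv τ := by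
  let e := Module.Free.chooseBasis R B
  refine ⟨∑ i, ψ (WithConv.toConv (e.coord i)) • e i, fun φ => ?_⟩
  have h1 : φ = ∑ i, φ.ofConv (e i) • WithConv.toConv (e.coord i) := by
    apply WithConv.ofConv_injective
    refine e.ext fun j => ?_
    have : (∑ i, φ.ofConv (e i) • WithConv.toConv (e.coord i) : D R B).ofConv =
        ∑ i, φ.ofConv (e i) • e.coord i := by
      rw [← toDual_apply, map_sum]
      rfl
    rw [this, LinearMap.sum_apply]
    simp [Finsupp.single_apply]
  rw [map_sum]
  conv_lhs => rw [h1, map_sum]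
  refine Finset.sum_congr rfl fun i _ => ?_
  rw [map_smul, map_smul, smul_eq_mul, smul_eq_mul, mul_comm]

theorem nDual_aux : trI R B * trI R (D R B) = Ideal.span {((Module.finrank R B : ℕ) : R)} := by
  have hfree : Module.Free R (D R B) := Module.Free.of_equiv (toDual R B).symm
  obtain ⟨l, t, hlt⟩ := exists_isInt (R := R) (B := B) finrank_ne_zero
  obtain ⟨τ, hτ⟩ := exists_rep (Algebra.trace R (D R B))
  have h1 : ∀ b, b * τ = Coalgebra.counit (R := R) b • τ := by
    intro b
    have key : ∀ φ : D R B, φ.ofConv (b * τ) = φ.ofConv (Coalgebra.counit (R := R) b • τ) := by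
      intro φ
      have h2 : ∀ z : D R B ⊗[R] D R B, (sl (Algebra.trace R (D R B)) z).ofConv b = ev₂ R B z (b ⊗ₜ τ) := by
        intro z
        induction z using TensorProduct.induction_on with
        | zero => simp
        | add x y hx hy => simp only [map_add, WithConv.ofConv_add, LinearMap.add_apply, hx, hy]
        | tmul x y =>
          rw [sl_tmul, ev₂_tmul, hτ]
          change y.ofConv τ • x.ofConv b = x.ofConv b * y.ofConv τ
          rw [smul_eq_mul, mul_comm]
      have h3 := inv_trace (R := R) (B := D R B) φ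
      have h4 := congrArg (fun w : D R B => w.ofConv b) h3
      simp only [h2] at h4
      rw [ev₂_coalgebra_comul_tmul] at h4
      change φ.ofConv (b * τ) = _ at h4
      rw [h4, map_smul, smul_eq_mul, hτ, Algebra.algebraMap_eq_smul_one]
      change φ.ofConv τ * (algebraMap R R (Coalgebra.counit (R := R) b)) = _
      rw [mul_comm]
      rfl
    let e := Module.Free.chooseBasis R B
    refine e.ext_elem fun i => ?_
    exact key (WithConv.toConv (e.coord i))
  have h2 := hlt.eq_smul_of h1
  have h3 : trI R (D R B) = Ideal.span {l τ} := by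
    apply le_antisymm
    · rintro _ ⟨φ, rfl⟩
      have h5 : φ.ofConv τ = l τ * φ.ofConv t := by
        conv_lhs => rw [h2]
        rw [map_smul, smul_eq_mul]
      rw [hτ, h5]
      exact Ideal.mul_mem_right _ _ (Ideal.subset_span rfl)
    · rw [Ideal.span_le, Set.singleton_subset_iff]
      exact ⟨WithConv.toConv l, hτ _⟩
  have h4 : Coalgebra.counit (R := R) τ = ((Module.finrank R B : ℕ) : R) := by
    have h5 := Algebra.trace_algebraMap (R := R) (S := D R B) (1 : R)
    rw [map_one, hτ] at h5
    have h6 : Module.finrank R (D R B) = Module.finrank R B := by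
      rw [LinearEquiv.finrank_eq (toDual R B)]
      exact Module.finrank_linearMap_self R R B
    rw [h6] at h5
    simpa using h5
  rw [h3, show trI R B = Ideal.span {Coalgebra.counit (R := R) t} from hlt.range_trace,
    Ideal.span_singleton_mul_span_singleton, ← h4]
  conv_rhs => rw [h2]
  rw [map_smul, smul_eq_mul, mul_comm]

end dual

theorem nDual : NDual.{u} := by
  intro R _ _ _ _ B _ _ _ _ _
  exact nDual_aux

section lenstra

open scoped Pointwise

/-- Lenstra's inequality for diagonal relations. -/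
theorem nLen : NLen.{u} := by
  intro R _ _ _ _ B _ _ _ _ _ s x r hx hgen hr
  classical
  obtain ⟨l, t, hlt⟩ := exists_isInt (R := R) (B := B) finrank_ne_zero
  let I : Ideal B := RingHom.ker (Bialgebra.counitAlgHom R B)
  have hNoeth : IsNoetherianRing B := IsNoetherianRing.of_finite R B
  have hIfg : I.FG := (isNoetherianRing_iff_ideal_fg B).1 hNoeth I
  have hgen' : I ≤ Ideal.span (Set.range x) ⊔ I • I := by
    rw [smul_eq_mul, ← pow_two]; exact hgen
  obtain ⟨ρ, hρ1, hρ2⟩ := Submodule.exists_sub_one_mem_and_smul_le_of_fg_of_le_sup hIfg le_rfl hgen'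
  have hρ : ∀ y ∈ I, ρ * y ∈ Ideal.span (Set.range x) := fun y hy =>
    hρ2 (Submodule.smul_mem_pointwise_smul y ρ I hy)
  have hερ : Coalgebra.counit (R := R) ρ = 1 := by
    have h1 : Coalgebra.counit (R := R) (ρ - 1) = 0 := hρ1
    rw [map_sub, Bialgebra.counit_one, sub_eq_zero] at h1
    exact h1
  have h1 : ∀ i, ρ * (r i • x i) ∈ I • Submodule.span B (Set.range x) := by
    intro i
    have h2 := hr i
    change r i • x i ∈ I ^ 2 at h2
    rw [pow_two] at h2
    refine Submodule.mul_induction_on h2 (fun a ha b hb => ?_) fun a b ha hb => ?_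
    · rw [mul_left_comm]
      exact Submodule.smul_mem_smul ha (hρ b hb)
    · rw [mul_add]; exact Submodule.add_mem _ ha hb
  choose n hn hn2 using fun i => (Submodule.mem_ideal_smul_span_iff_exists_sum I x _).1 (h1 i)
  have hn3 : ∀ i, ∑ j, n i j * x j = ρ * (r i • x i) := by
    intro i
    rw [← hn2 i, Finsupp.sum_fintype _ _ (fun j => by simp)]
    rfl
  let M : Matrix (Fin s) (Fin s) B := Matrix.diagonal (fun i => ρ * algebraMap R B (r i)) - Matrix.of fun i j => n i j
  have hM : M.mulVec x = 0 := by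
    rw [Matrix.sub_mulVec, sub_eq_zero]
    funext i
    rw [Matrix.mulVec_diagonal, Matrix.mulVec, dotProduct]
    refine Eq.trans ?_ (hn3 i).symm
    rw [Algebra.smul_def, mul_assoc]
  have hdet : ∀ j, M.det * x j = 0 := by
    intro j
    have h3 : M.adjugate.mulVec (M.mulVec x) = M.det • x := by
      rw [Matrix.mulVec_mulVec, Matrix.adjugate_mul, Matrix.smul_mulVec, Matrix.one_mulVec]
    rw [hM, Matrix.mulVec_zero] at h3
    exact (congrFun h3 j).symm
  have hspan : ∀ y ∈ Ideal.span (Set.range x), M.det * y = 0 := by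
    intro y hy
    refine Submodule.span_induction ?_ (mul_zero _) (fun a b _ _ ha hb => ?_) (fun a b _ hb => ?_) hy
    · rintro _ ⟨j, rfl⟩; exact hdet j
    · rw [mul_add, ha, hb, add_zero]
    · rw [smul_eq_mul, mul_left_comm, hb, mul_zero]
  have hd : ∀ b, b * (ρ * M.det) = Coalgebra.counit (R := R) b • (ρ * M.det) := by
    intro b
    have h4 : b - algebraMap R B (Coalgebra.counit (R := R) b) ∈ I := by
      change Coalgebra.counit (R := R) (b - algebraMap R B (Coalgebra.counit (R := R) b)) = 0
      rw [map_sub, Bialgebra.counit_algebraMap, sub_self]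
    have h5 := hspan _ (hρ _ h4)
    rw [← sub_eq_zero, Algebra.smul_def]
    linear_combination h5
  have hε : Coalgebra.counit (R := R) (ρ * M.det) = ∏ i, r i := by
    rw [Bialgebra.counit_mul, hερ, one_mul]
    have h6 : Coalgebra.counit (R := R) M.det = ((Bialgebra.counitAlgHom R B : B →+* R).mapMatrix M).det := by
      rw [← RingHom.map_det]; rfl
    rw [h6]
    have h7 : (Bialgebra.counitAlgHom R B : B →+* R).mapMatrix M = Matrix.diagonal r := by
      ext i j
      simp only [M, RingHom.mapMatrix_apply, Matrix.map_apply, Matrix.sub_apply, Matrix.of_apply, map_sub]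
      have h8 : (Bialgebra.counitAlgHom R B : B →+* R) (n i j) = 0 := hn i j
      rw [h8, sub_zero, Matrix.diagonal_apply, Matrix.diagonal_apply]
      split_ifs with hij
      · rw [map_mul]
        have h9 : (Bialgebra.counitAlgHom R B : B →+* R) ρ = 1 := hερ
        rw [h9, one_mul]
        exact Bialgebra.counit_algebraMap _
      · exact map_zero _
    rw [h7, Matrix.det_diagonal]
  rw [← hε, hlt.eq_smul_of hd, map_smul, smul_eq_mul, show trI R B = Ideal.span {Coalgebra.counit (R := R) t} from hlt.range_trace]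
  exact Ideal.mul_mem_left _ _ (Ideal.subset_span rfl)

end lenstra

end K497.TrNodes
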