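import Groth.Agent.SGA7.K497.TrNodes
import Mathlib.LinearAlgebra.Trace
import Mathlib.Algebra.Module.Projective

/-!
# Multiplicativity of trace ideals in exact sequences (node `NMul`)
-/

set_option autoImplicit false
universe u

open TensorProduct K564.Tate K497.TrInt

namespace K497.TrMul

section idem

variable {R M : Type*} [CommRing R] [IsDomain R] [CharZero R] [AddCommGroup M] [Module R M] [Module.Finite R M]
  [Module.Free R M]

omit [IsDomain R] [CharZero R] [AddCommGroup M] [Module R M] [Module.Finite R M] [Module.Free R M] in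
theorem idem_eq_zero {K V : Type*} [Field K] [CharZero K] [AddCommGroup V] [Module K V] [Module.Finite K V]
    {E : V →ₗ[K] V} (h2 : IsIdempotentElem E) (h5 : LinearMap.trace K V E = 0) : E = 0 :=
  LinearMap.IsIdempotentElem.eq_zero_of_trace_eq_zero h2 h5

omit [IsDomain R] [CharZero R] in
theorem eq_zero_aux (K : Type*) [Field K] [CharZero K] [Algebra R K] (hinj : Function.Injective (algebraMap R K))
    {D : M →ₗ[R] M} {a : R} (ha : a ≠ 0) (hD : D ∘ₗ D = a • D)
    (htr : LinearMap.trace R M D = 0) : D = 0 := by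
  have haK : algebraMap R K a ≠ 0 := fun h => ha (hinj (h.trans (map_zero _).symm))
  have h1 : D.baseChange K ∘ₗ D.baseChange K = (algebraMap R K a) • D.baseChange K := by
    rw [← LinearMap.baseChange_comp, hD, LinearMap.baseChange_smul]
    ext m
    simp only [AlgebraTensorModule.curry_apply, curry_apply, algebraMap_smul]
  have h2 : IsIdempotentElem ((algebraMap R K a)⁻¹ • D.baseChange K) := by
    change ((algebraMap R K a)⁻¹ • D.baseChange K) ∘ₗ ((algebraMap R K a)⁻¹ • D.baseChange K) = _
    rw [LinearMap.smul_comp, LinearMap.comp_smul, h1, smul_smul, smul_smul]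
    rw [mul_assoc, inv_mul_cancel₀ haK, mul_one]
  have h5 : LinearMap.trace K _ ((algebraMap R K a)⁻¹ • D.baseChange K) = 0 := by
    rw [map_smul, LinearMap.trace_baseChange, htr, map_zero, smul_zero]
  have h8 : (algebraMap R K a)⁻¹ • D.baseChange K = 0 := idem_eq_zero h2 h5
  have h9 : D.baseChange K = 0 := by
    have h10 := congrArg (fun E => (algebraMap R K a) • E) h8
    simp only [smul_smul, mul_inv_cancel₀ haK, one_smul, smul_zero] at h10
    exact h10
  refine LinearMap.ext fun m => ?_
  have h10 := LinearMap.congr_fun h9 (1 ⊗ₜ m)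
  rw [LinearMap.baseChange_tmul, LinearMap.zero_apply] at h10
  let e := Module.Free.chooseBasis R M
  refine e.ext_elem fun i => ?_
  have h11 := congrArg (fun z => (Algebra.TensorProduct.basis K e).repr z i) h10
  simp only [Algebra.TensorProduct.basis_repr_tmul, map_zero, Finsupp.zero_apply] at h11
  rw [one_smul, Finsupp.mapRange_apply] at h11
  rw [LinearMap.zero_apply, map_zero, Finsupp.zero_apply]
  exact hinj (h11.trans (map_zero _).symm)

theorem eq_zero_of_trace {D : M →ₗ[R] M} {a : R} (ha : a ≠ 0) (hD : D ∘ₗ D = a • D)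
    (htr : LinearMap.trace R M D = 0) : D = 0 := by
  have : CharZero (FractionRing R) := charZero_of_injective_algebraMap (IsFractionRing.injective R (FractionRing R))
  exact eq_zero_aux (FractionRing R) (IsFractionRing.injective R (FractionRing R)) ha hD htr

end idem

section ex

variable {R A A' A'' : Type u} [CommRing R] [IsDomain R] [CharZero R]
  [CommRing A] [HopfAlgebra R A] [Coalgebra.IsCocomm R A] [Module.Finite R A] [Module.Free R A]
  [CommRing A'] [HopfAlgebra R A'] [Coalgebra.IsCocomm R A'] [Module.Finite R A'] [Module.Free R A']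
  [CommRing A''] [HopfAlgebra R A''] [Coalgebra.IsCocomm R A''] [Module.Finite R A''] [Module.Free R A'']
  {f : A'' →ₐc[R] A} {g : A →ₐc[R] A'} (hf : Function.Injective f)
  (hg : Function.Surjective g)
  (hrk : Module.finrank R A = Module.finrank R A' * Module.finrank R A'')
  (hgf : ∀ x, g (f x) = algebraMap R A' (Coalgebra.counit x))
  {l : A →ₗ[R] R} {t : A} (h : IsInt l t) {l' : A' →ₗ[R] R} {t' : A'} (h' : IsInt l' t')
  {l'' : A'' →ₗ[R] R} {t'' : A''} (h'' : IsInt l'' t'')

omit [IsDomain R] in
theorem trace_one (B : Type u) [CommRing B] [Algebra R B] [Module.Free R B] :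
    Algebra.trace R B 1 = ((Module.finrank R B : ℕ) : R) := by
  have h2 := Algebra.trace_algebraMap (R := R) (S := B) (1 : R)
  rw [map_one] at h2
  rw [h2]; simp

omit [IsDomain R] [CharZero R] [Coalgebra.IsCocomm R A] [Coalgebra.IsCocomm R A''] [Module.Finite R A'']
  [Module.Free R A''] in
include hf in
/-- The trace of `A` restricted to `A''` is invariant. -/
theorem inv_trace_comp : Inv (Algebra.trace R A ∘ₗ (f : A'' →ₗ[R] A)) := by
  intro y
  apply hf
  have h1 : ∀ z : A'' ⊗[R] A'', f (sl (Algebra.trace R A ∘ₗ (f : A'' →ₗ[R] A)) z) =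
      sl (Algebra.trace R A) (TensorProduct.map (f : A'' →ₗ[R] A) (f : A'' →ₗ[R] A) z) := by
    intro z
    induction z using TensorProduct.induction_on with
    | zero => simp
    | add a b ha hb => simp only [map_add, ha, hb]
    | tmul a b =>
      rw [sl_tmul, TensorProduct.map_tmul, sl_tmul, map_smul]
      rfl
  rw [h1, CoalgHomClass.map_comp_comul_apply, inv_trace]
  rw [AlgHomClass.commutes]
  rfl

omit [Coalgebra.IsCocomm R A] [Coalgebra.IsCocomm R A'] [Module.Finite R A'] [Module.Free R A'] in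
include hf hrk h'' in
theorem trace_ft : Algebra.trace R A (f t'') = ((Module.finrank R A' : ℕ) : R) * Coalgebra.counit (R := R) t'' := by
  have h1 := h''.eq_smul (inv_trace_comp hf) 1
  rw [LinearMap.comp_apply, LinearMap.comp_apply] at h1
  change Algebra.trace R A (f 1) = Algebra.trace R A (f t'') * l'' 1 at h1
  rw [map_one, trace_one, hrk] at h1
  have h2 := h''.trace_eq 1
  rw [trace_one] at h2
  push_cast at h1
  rw [h2, ← mul_assoc] at h1
  have h3 : l'' 1 ≠ 0 := by
    intro h0
    rw [h0, mul_zero] at h2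
    exact finrank_ne_zero (R := R) (B := A'') h2
  exact (mul_right_cancel₀ h3 h1).symm

omit [Coalgebra.IsCocomm R A] [Coalgebra.IsCocomm R A'] in
include hf hg hrk hgf h'' in
/-- The kernel of `g` is killed by `f t''`. -/
theorem mul_ft_eq_zero {x : A} (hx : g x = 0) : f t'' * x = 0 := by
  obtain ⟨s, hs⟩ := Module.projective_lifting_property (g : A →ₗ[R] A') LinearMap.id hg
  let E : A →ₗ[R] A := LinearMap.mulLeft R (f t'')
  let D : A →ₗ[R] A := E - E ∘ₗ s ∘ₗ (g : A →ₗ[R] A')
  have hEE : E ∘ₗ E = (Coalgebra.counit (R := R) t'') • E := by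
    ext y
    simp only [E, LinearMap.comp_apply, LinearMap.mulLeft_apply, LinearMap.smul_apply]
    rw [← mul_assoc, ← map_mul, h''.mul, map_smul, smul_mul_assoc]
  have hgE : (g : A →ₗ[R] A') ∘ₗ E = (Coalgebra.counit (R := R) t'') • (g : A →ₗ[R] A') := by
    ext y
    simp only [E, LinearMap.comp_apply, LinearMap.mulLeft_apply, LinearMap.smul_apply]
    change g (f t'' * y) = _ • g y
    rw [map_mul, hgf, Algebra.smul_def]
  have hε : Coalgebra.counit (R := R) t'' ≠ 0 := by
    intro h0
    have h2 := h''.trace_eq 1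
    rw [trace_one, h0, zero_mul] at h2
    exact finrank_ne_zero (R := R) (B := A'') h2
  have hgD : (g : A →ₗ[R] A') ∘ₗ D = 0 := by
    rw [LinearMap.comp_sub, ← LinearMap.comp_assoc, hgE, LinearMap.smul_comp, ← LinearMap.comp_assoc, hs,
      LinearMap.id_comp, sub_self]
  have hDD : D ∘ₗ D = (Coalgebra.counit (R := R) t'') • D := by
    have h1 : D ∘ₗ D = E ∘ₗ D := by
      change (E - E ∘ₗ s ∘ₗ (g : A →ₗ[R] A')) ∘ₗ D = _
      rw [LinearMap.sub_comp, LinearMap.comp_assoc, LinearMap.comp_assoc, hgD, LinearMap.comp_zero,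
        LinearMap.comp_zero, sub_zero]
    rw [h1]
    change E ∘ₗ (E - E ∘ₗ s ∘ₗ (g : A →ₗ[R] A')) = (Coalgebra.counit (R := R) t'') • (E - E ∘ₗ s ∘ₗ (g : A →ₗ[R] A'))
    rw [LinearMap.comp_sub, ← LinearMap.comp_assoc, hEE, LinearMap.smul_comp, smul_sub]
  have htr : LinearMap.trace R A D = 0 := by
    have h1 : LinearMap.trace R A (E ∘ₗ s ∘ₗ (g : A →ₗ[R] A')) =
        Coalgebra.counit (R := R) t'' * ((Module.finrank R A' : ℕ) : R) := by
      rw [← LinearMap.comp_assoc, LinearMap.trace_comp_comm', ← LinearMap.comp_assoc, hgE, LinearMap.smul_comp, hs,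
        map_smul, LinearMap.trace_id, smul_eq_mul]
    rw [map_sub, h1]
    change LinearMap.trace R A (LinearMap.mulLeft R (f t'')) - _ = 0
    have h2 := trace_ft hf hrk h''
    rw [Algebra.trace_apply] at h2
    change LinearMap.trace R A (LinearMap.mulLeft R (f t'')) = _ at h2
    rw [h2, mul_comm, sub_self]
  have hD0 := eq_zero_of_trace hε hDD htr
  have h3 := LinearMap.congr_fun hD0 x
  simp only [D, LinearMap.sub_apply, LinearMap.comp_apply, LinearMap.zero_apply] at h3
  change f t'' * x - E (s (g x)) = 0 at h3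
  rwa [hx, map_zero, map_zero, sub_zero] at h3

omit [IsDomain R] [CharZero R] [Coalgebra.IsCocomm R A] [Module.Finite R A] [Module.Free R A]
  [Coalgebra.IsCocomm R A'] [Module.Finite R A'] [Module.Free R A'] [Coalgebra.IsCocomm R A'']
  [Module.Finite R A''] [Module.Free R A''] in
include hgf in
theorem slice_aux (l : A →ₗ[R] R) (z : A ⊗[R] A) (w : A'' ⊗[R] A'') :
    g (sl l (z * TensorProduct.map (f : A'' →ₗ[R] A) (f : A'' →ₗ[R] A) w)) =
      g (sl l (z * (1 ⊗ₜ f ((TensorProduct.lid R A'') ((Coalgebra.counit (R := R) (A := A'')).rTensor A'' w))))) := by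
  induction w using TensorProduct.induction_on with
  | zero => simp
  | add a b ha hb => simp only [map_add, mul_add, ha, hb, tmul_add]
  | tmul a b =>
    induction z using TensorProduct.induction_on with
    | zero => simp
    | add x y hx hy => simp only [map_add, add_mul, hx, hy]
    | tmul x y =>
      rw [TensorProduct.map_tmul, Algebra.TensorProduct.tmul_mul_tmul, Algebra.TensorProduct.tmul_mul_tmul, sl_tmul,
        sl_tmul, LinearMap.rTensor_tmul, TensorProduct.lid_tmul, mul_one, map_smul g, map_smul g]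
      change l (y * f b) • g (x * f a) = l (y * f (Coalgebra.counit (R := R) a • b)) • g x
      rw [map_mul g, hgf, map_smul f, mul_smul_comm, map_smul l, mul_comm (g x), ← Algebra.smul_def, smul_smul,
        smul_eq_mul, mul_comm]

omit [Coalgebra.IsCocomm R A] [Coalgebra.IsCocomm R A'] in
include hf hg hrk hgf h h'' in
/-- The functional `μ` with `μ (g y) = l (y f(t''))` is invariant. -/
theorem exists_mu : ∃ μ : A' →ₗ[R] R, (∀ y, μ (g y) = l (y * f t'')) ∧ Inv μ := by
  obtain ⟨s, hs⟩ := Module.projective_lifting_property (g : A →ₗ[R] A') LinearMap.id hg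
  have hμ : ∀ y, (l ∘ₗ LinearMap.mulRight R (f t'') ∘ₗ s) (g y) = l (y * f t'') := by
    intro y
    have h1 : g (s (g y) - y) = 0 := by
      rw [map_sub, sub_eq_zero]
      exact LinearMap.congr_fun hs (g y)
    have h2 := mul_ft_eq_zero hf hg hrk hgf h'' h1
    rw [mul_sub, sub_eq_zero] at h2
    change l (s (g y) * f t'') = _
    rw [mul_comm, h2, mul_comm]
  refine ⟨_, hμ, fun a' => ?_⟩
  obtain ⟨y, rfl⟩ := hg a'
  have h1 : ∀ z : A ⊗[R] A, sl (l ∘ₗ LinearMap.mulRight R (f t'') ∘ₗ s)
      (TensorProduct.map (g : A →ₗ[R] A') (g : A →ₗ[R] A') z) = g (sl l (z * (1 ⊗ₜ f t''))) := by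
    intro z
    induction z using TensorProduct.induction_on with
    | zero => simp
    | add a b ha hb => simp only [map_add, add_mul, ha, hb]
    | tmul a b =>
      rw [TensorProduct.map_tmul, sl_tmul, Algebra.TensorProduct.tmul_mul_tmul, sl_tmul, mul_one, map_smul]
      change (l ∘ₗ LinearMap.mulRight R (f t'') ∘ₗ s) (g b) • g a = _
      rw [hμ]
  have h2 := slice_aux hgf l (Coalgebra.comul (R := R) y) (Coalgebra.comul (R := R) t'')
  rw [Coalgebra.rTensor_counit_comul, TensorProduct.lid_tmul, one_smul, CoalgHomClass.map_comp_comul_apply,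
    ← Bialgebra.comul_mul, h.inv, AlgHomClass.commutes] at h2
  rw [← CoalgHomClass.map_comp_comul_apply, h1, hμ, ← h2]

end ex

section dvr

variable {R A A' A'' : Type u} [CommRing R] [IsDomain R] [IsDiscreteValuationRing R] [CharZero R]
  [CommRing A] [HopfAlgebra R A] [Coalgebra.IsCocomm R A] [Module.Finite R A] [Module.Free R A]
  [CommRing A'] [HopfAlgebra R A'] [Coalgebra.IsCocomm R A'] [Module.Finite R A'] [Module.Free R A']
  [CommRing A''] [HopfAlgebra R A''] [Coalgebra.IsCocomm R A''] [Module.Finite R A''] [Module.Free R A'']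
  {f : A'' →ₐc[R] A} {g : A →ₐc[R] A'} (hf : Function.Injective f)
  (hsat : ∀ (r : R) (b : A), r ≠ 0 → (∃ a, f a = r • b) → ∃ a, f a = b)
  (hg : Function.Surjective g)
  (hrk : Module.finrank R A = Module.finrank R A' * Module.finrank R A'')
  (hgf : ∀ x, g (f x) = algebraMap R A' (Coalgebra.counit x))
  {l : A →ₗ[R] R} {t : A} (h : IsInt l t) {l' : A' →ₗ[R] R} {t' : A'} (h' : IsInt l' t')
  {l'' : A'' →ₗ[R] R} {t'' : A''} (h'' : IsInt l'' t'')

omit [CharZero R] [Coalgebra.IsCocomm R A] [Coalgebra.IsCocomm R A''] [Module.Finite R A''] [Module.Free R A''] in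
include hf hsat h h'' in
theorem exists_isUnit : ∃ y, IsUnit (l (y * f t'')) := by
  by_contra hcon
  push Not at hcon
  obtain ⟨ϖ, hϖ⟩ := IsDiscreteValuationRing.exists_irreducible R
  let e := Module.Free.chooseBasis R A
  have h1 : ∀ i, e.repr (f t'') i ∈ IsLocalRing.maximalIdeal R := fun i =>
    repr_mem e _ h.inv h.one (fun b => (IsLocalRing.mem_maximalIdeal _).2 (hcon b)) i
  rw [hϖ.maximalIdeal_eq] at h1
  choose c hc using fun i => Ideal.mem_span_singleton.1 (h1 i)
  have h2 : f t'' = ϖ • ∑ i, c i • e i := by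
    conv_lhs => rw [← e.sum_repr (f t'')]
    rw [Finset.smul_sum]
    refine Finset.sum_congr rfl fun i _ => ?_
    rw [hc, mul_smul]
  obtain ⟨a, ha⟩ := hsat ϖ _ hϖ.ne_zero ⟨t'', h2⟩
  have h3 : t'' = ϖ • a := hf (by rw [h2, map_smul, ha])
  have h4 := h''.one
  rw [h3, map_smul, smul_eq_mul] at h4
  exact hϖ.not_isUnit (IsUnit.of_mul_eq_one _ h4)

omit [Coalgebra.IsCocomm R A] in
include hf hsat hg hrk hgf h h' h'' in
/-- The integrals in an exact sequence: `z f(t'') = t` for a `z` with `c g(z) = t'`, `c` a unit. -/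
theorem exists_z : ∃ (c : R) (z : A), IsUnit c ∧ g z = c • t' ∧ z * f t'' = t := by
  obtain ⟨μ, hμ, hμi⟩ := exists_mu hf hg hrk hgf h h''
  obtain ⟨y, hy⟩ := exists_isUnit hf hsat h h''
  obtain ⟨x, hx⟩ := hg t'
  have h1 : ∀ a, μ a = μ t' * l' a := h'.eq_smul hμi
  have h2 : IsUnit (μ t') := by
    rw [← hμ, h1] at hy
    exact isUnit_of_mul_isUnit_left hy
  have h3 : x * f t'' = μ t' • t := by
    have h4 : ∀ b, b * (x * f t'') = Coalgebra.counit (R := R) b • (x * f t'') := by
      intro b
      have h5 : g ((b - algebraMap R A (Coalgebra.counit (R := R) b)) * x) = 0 := by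
        rw [map_mul, map_sub, AlgHomClass.commutes, hx, sub_mul, h'.mul, CoalgHomClass.counit_comp_apply,
          Algebra.smul_def, sub_self]
      have h6 := mul_ft_eq_zero hf hg hrk hgf h'' h5
      rw [← sub_eq_zero, Algebra.smul_def]
      linear_combination h6
    have h7 := h.eq_smul_of h4
    rw [h7, ← hμ, hx]
  obtain ⟨v, hv⟩ := h2
  refine ⟨((v⁻¹ : Rˣ) : R), ((v⁻¹ : Rˣ) : R) • x, Units.isUnit _, ?_, ?_⟩
  · rw [map_smul, hx]
  · rw [smul_mul_assoc, h3, ← hv, smul_smul, Units.inv_mul, one_smul]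

include hf hsat hg hrk hgf in
/-- Multiplicativity of trace ideals in exact sequences. -/
theorem trI_mul : trI R A = trI R A' * trI R A'' := by
  obtain ⟨l, t, h⟩ := exists_isInt (R := R) (B := A) finrank_ne_zero
  obtain ⟨l', t', h'⟩ := exists_isInt (R := R) (B := A') finrank_ne_zero
  obtain ⟨l'', t'', h''⟩ := exists_isInt (R := R) (B := A'') finrank_ne_zero
  obtain ⟨c, z, hc, hz, hzt⟩ := exists_z hf hsat hg hrk hgf h h' h''
  have h1 : Coalgebra.counit (R := R) t = c * (Coalgebra.counit (R := R) t' * Coalgebra.counit (R := R) t'') := by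
    have h2 : Coalgebra.counit (R := R) z = c * Coalgebra.counit (R := R) t' := by
      rw [← CoalgHomClass.counit_comp_apply g z, hz, map_smul, smul_eq_mul]
    rw [← hzt, Bialgebra.counit_mul, h2, CoalgHomClass.counit_comp_apply, mul_assoc]
  rw [show trI R A = Ideal.span {Coalgebra.counit (R := R) t} from h.range_trace,
    show trI R A' = Ideal.span {Coalgebra.counit (R := R) t'} from h'.range_trace,
    show trI R A'' = Ideal.span {Coalgebra.counit (R := R) t''} from h''.range_trace,
    Ideal.span_singleton_mul_span_singleton, h1, mul_comm c, Ideal.span_singleton_mul_right_unit hc]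

include hf hsat hg hrk hgf in
/-- Exactness: the kernel of `g` is generated by the image of the augmentation ideal. -/
theorem ker_eq (x : A) (hx : g x = 0) :
    x ∈ Ideal.map (f : A'' →+* A) (RingHom.ker (Bialgebra.counitAlgHom R A'')) := by
  obtain ⟨l, t, h⟩ := exists_isInt (R := R) (B := A) finrank_ne_zero
  obtain ⟨l', t', h'⟩ := exists_isInt (R := R) (B := A') finrank_ne_zero
  obtain ⟨l'', t'', h''⟩ := exists_isInt (R := R) (B := A'') finrank_ne_zero
  obtain ⟨c, z, hc, hz, hzt⟩ := exists_z hf hsat hg hrk hgf h h' h''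
  set J := Ideal.map (f : A'' →+* A) (RingHom.ker (Bialgebra.counitAlgHom R A'')) with hJ
  have hfx : f t'' * x = 0 := mul_ft_eq_zero hf hg hrk hgf h'' hx
  let φ : A →ₗ[R] R := l ∘ₗ LinearMap.mulLeft R z
  have hφ : ∀ a, φ (f t'' * a) = Coalgebra.counit (R := R) a := by
    intro a
    change l (z * (f t'' * a)) = _
    rw [← mul_assoc, hzt, mul_comm, h.mul, map_smul, h.one, smul_eq_mul, mul_one]
  -- the averaging map
  let F : A'' ⊗[R] A'' →ₗ[R] A := TensorProduct.lift ((LinearMap.mul R A).compl₁₂ (f : A'' →ₗ[R] A)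
    (((sl φ).restrictScalars R) ∘ₗ Coalgebra.comul (R := R) (A := A) ∘ₗ LinearMap.mulRight R x ∘ₗ (f : A'' →ₗ[R] A)))
  have hF : ∀ a b, F (a ⊗ₜ b) = f a * sl φ (Coalgebra.comul (R := R) (f b * x)) := fun a b => rfl
  have h1 : ∀ w : A'' ⊗[R] A'', F w = sl φ (TensorProduct.map (f : A'' →ₗ[R] A) (f : A'' →ₗ[R] A) (sh w) *
      Coalgebra.comul (R := R) x) := by
    intro w
    induction w using TensorProduct.induction_on with
    | zero => simp
    | add a b ha hb => simp only [map_add, add_mul, ha, hb]
    | tmul a b =>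
      have h2 : TensorProduct.map (f : A'' →ₗ[R] A) (f : A'' →ₗ[R] A) (sh (a ⊗ₜ b)) =
          (f a ⊗ₜ 1) * Coalgebra.comul (R := R) (f b) := by
        rw [sh_tmul, ← CoalgHomClass.map_comp_comul_apply]
        have h3 := map_mul (Algebra.TensorProduct.map (f : A'' →ₐ[R] A) (f : A'' →ₐ[R] A)) (a ⊗ₜ[R] (1 : A''))
          (Coalgebra.comul (R := R) b)
        rw [Algebra.TensorProduct.map_tmul, map_one] at h3
        exact h3
      rw [hF, h2, mul_assoc, ← Bialgebra.comul_mul]
      have h4 : (f a ⊗ₜ[R] (1 : A)) * Coalgebra.comul (R := R) (f b * x) =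
          f a • Coalgebra.comul (R := R) (f b * x) := by
        rw [Algebra.smul_def, Algebra.TensorProduct.algebraMap_apply]; rfl
      rw [h4, map_smul, smul_eq_mul]
  have h2 : F (un t'') = x := by
    rw [h1, sh_un, TensorProduct.map_tmul]
    have h3 : ∀ z : A ⊗[R] A, sl φ ((f : A'' →ₗ[R] A) 1 ⊗ₜ[R] (f : A'' →ₗ[R] A) t'' * z) =
        TensorProduct.rid R A ((Coalgebra.counit (R := R) (A := A)).lTensor A z) := by
      intro z
      induction z using TensorProduct.induction_on with
      | zero => simp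
      | add a b ha hb => simp only [map_add, mul_add, ha, hb]
      | tmul a b =>
        rw [Algebra.TensorProduct.tmul_mul_tmul, sl_tmul]
        change φ (f t'' * b) • (f 1 * a) = _
        rw [map_one, one_mul, hφ, LinearMap.lTensor_tmul, TensorProduct.rid_tmul]
    rw [h3, Coalgebra.lTensor_counit_comul]
    simp
  have h3 : ∀ w : A'' ⊗[R] A'', F w - sl φ (Coalgebra.comul (R := R)
      (f ((TensorProduct.lid R A'') ((Coalgebra.counit (R := R) (A := A'')).rTensor A'' w)) * x)) ∈ J := by
    intro w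
    induction w using TensorProduct.induction_on with
    | zero => simp
    | add a b ha hb =>
      have := J.add_mem ha hb
      simp only [map_add, add_mul]
      convert this using 1
      ring
    | tmul a b =>
      rw [hF, LinearMap.rTensor_tmul, TensorProduct.lid_tmul, map_smul, smul_mul_assoc, map_smul,
        LinearMap.map_smul_of_tower, Algebra.smul_def, ← sub_mul]
      refine J.mul_mem_right _ ?_
      have h5 : f a - algebraMap R A (Coalgebra.counit (R := R) a) =
          (f : A'' →+* A) (a - algebraMap R A'' (Coalgebra.counit (R := R) a)) := by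
        change _ = f _
        rw [map_sub, AlgHomClass.commutes]
      rw [h5]
      refine Ideal.mem_map_of_mem _ ?_
      change Coalgebra.counit (R := R) (a - algebraMap R A'' (Coalgebra.counit (R := R) a)) = 0
      rw [map_sub, Bialgebra.counit_algebraMap, sub_self]
  have h4 := h3 (un t'')
  have h5 : (TensorProduct.lid R A'') ((Coalgebra.counit (R := R) (A := A'')).rTensor A'' (un t'')) = t'' := by
    rw [un, ← LinearMap.rTensor_comp_apply, HopfAlgebra.counit_comp_antipode, Coalgebra.rTensor_counit_comul]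
    simp
  rw [h2, h5, hfx, map_zero, map_zero, sub_zero] at h4
  exact h4

end dvr

theorem nMul : NMul.{u} := by
  intro R _ _ _ _ A A' A'' _ _ _ _ _ _ _ _ _ _ _ _ _ _ _ f g hf hsat hg hrk hgf
  exact trI_mul hf hsat hg hrk hgf

end K497.TrMul
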