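import Groth.Agent.SGA7.K497.PolR
import Groth.Agent.SGA7.K346.ViaAsm

/-!
# The node `POLR` of `K346.ViaAsm`
-/

set_option autoImplicit false
universe u

namespace K497.PolVia

/-- the polarisation over `R`, in the form consumed by `K346.ViaAsm.main_of`. -/
theorem polR : K346.ViaAsm.POLR.{u} := by
  intro R K _ _ _ _ _ _ _ _ p _ hp A _ _ _ _ P _ i t hP h G e he het hei Φ M _
  obtain ⟨N, u, v, hN, -, -, -, -, h5, h6⟩ :=
    K497.PolR.main K543.TateFull.nFull R K A p hp P i t hP h G e he het hei Φ M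
  exact ⟨N, u, v, by omega, h5, h6⟩

end K497.PolVia
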