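import Groth.Agent.SGA7.K497.Layers
import Mathlib.LinearAlgebra.FreeModule.PID
import Mathlib.RingTheory.AdicCompletion.Basic
import Mathlib.LinearAlgebra.Finsupp.LinearCombination

/-!
# The rank of the Lie algebra of a Barsotti-Tate system (node `NLie`)

A chain of compatible generators of the augmentation ideals gives surjections `R ^ d → ω_n`; their kernels `N_n`
satisfy `N_n = N + p ^ n R ^ d` with `N = ⋂ N_n`; a Smith normal form of `N ⊆ R ^ d` and Lenstra's inequality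
give the rank of `R ^ d / N`.
-/

set_option autoImplicit false
universe u

open TensorProduct K564.Tate K497.TrInt K497.Layers

namespace K497.LieRank

section lim

variable {R : Type u} [CommRing R] [IsDomain R] [IsDiscreteValuationRing R]

omit [IsDomain R] [IsDiscreteValuationRing R] in
theorem pow_dvd_sub (p : R) (w : ℕ → R) {k m : ℕ} (h : k ≤ m) :
    p ^ k ∣ (∑ i ∈ Finset.range m, p ^ i * w i) - ∑ i ∈ Finset.range k, p ^ i * w i := by
  rw [← Finset.sum_Ico_eq_sub _ h]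
  refine Finset.dvd_sum fun i hi => ?_
  exact Dvd.dvd.mul_right (pow_dvd_pow p (Finset.mem_Ico.1 hi).1) _

theorem exists_lim [IsAdicComplete (IsLocalRing.maximalIdeal R) R] {p : R} (hp : p ∈ IsLocalRing.maximalIdeal R)
    (hp0 : p ≠ 0) (w : ℕ → R) : ∃ W, ∀ k, ∃ c, W = (∑ i ∈ Finset.range k, p ^ i * w i) + p ^ k * c := by
  obtain ⟨ϖ, hϖ⟩ := IsDiscreteValuationRing.exists_irreducible R
  obtain ⟨e, he⟩ := IsDiscreteValuationRing.associated_pow_irreducible hp0 hϖ
  obtain ⟨W, hW⟩ := IsPrecomplete.prec' (I := IsLocalRing.maximalIdeal R) (M := R)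
    (fun m => ∑ i ∈ Finset.range m, p ^ i * w i) (by
      intro m n hmn
      rw [SModEq.sub_mem, ← neg_mem_iff, neg_sub, smul_eq_mul, Ideal.mul_top]
      have h1 := pow_dvd_sub p w hmn
      exact Ideal.mem_of_dvd _ h1 (Ideal.pow_mem_pow hp m))
  refine ⟨W, fun k => ?_⟩
  have h1 := hW (max k (e * k))
  rw [SModEq.sub_mem, smul_eq_mul, Ideal.mul_top, hϖ.maximalIdeal_eq, Ideal.span_singleton_pow,
    Ideal.mem_span_singleton] at h1
  have h2 : p ^ k ∣ (∑ i ∈ Finset.range (max k (e * k)), p ^ i * w i) - W := by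
    refine dvd_trans ?_ h1
    have h3 : Associated (p ^ k) (ϖ ^ (e * k)) := by
      rw [pow_mul]; exact he.pow_pow
    exact h3.dvd.trans (pow_dvd_pow _ (le_max_right _ _))
  have h3 := pow_dvd_sub p w (le_max_left k (e * k))
  obtain ⟨c, hc⟩ := dvd_sub h3 h2
  exact ⟨c, by linear_combination hc⟩

theorem exists_lim_pi [IsAdicComplete (IsLocalRing.maximalIdeal R) R] {p : R} (hp : p ∈ IsLocalRing.maximalIdeal R)
    (hp0 : p ≠ 0) {d : ℕ} (w : ℕ → Fin d → R) :
    ∃ W : Fin d → R, ∀ k, ∃ c : Fin d → R, W = (∑ i ∈ Finset.range k, p ^ i • w i) + p ^ k • c := by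
  choose W hW using fun j => exists_lim hp hp0 (fun i => w i j)
  refine ⟨W, fun k => ?_⟩
  choose c hc using fun j => hW j k
  refine ⟨c, funext fun j => ?_⟩
  rw [hc, Pi.add_apply, Finset.sum_apply, Pi.smul_apply, smul_eq_mul]
  rfl

end lim

section chain

variable {R : Type u} [CommRing R] {p h : ℕ} (Φ : Sys R p h)

/-- A compatible chain of generators of the augmentation ideals. -/
structure Chain (d : ℕ) where
  X : ∀ n, Fin d → Φ.B (n + 1)
  mem : ∀ n j, X n j ∈ aug R (Φ.B (n + 1))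
  res : ∀ n j, Φ.res (n + 1) (X (n + 1) j) = X n j
  span : ∀ y ∈ aug R (Φ.B 1), ∃ v : Fin d → R, y = Fintype.linearCombination R (X 0) v

theorem exists_chain [IsNoetherianRing R] : ∃ d, Nonempty (Chain Φ d) := by
  have h1 : ((aug R (Φ.B 1)).restrictScalars R).FG := IsNoetherian.noetherian _
  obtain ⟨d, s, hs⟩ := Submodule.fg_iff_exists_fin_generating_family.1 h1
  let Y : ∀ n, {x : Fin d → Φ.B (n + 1) // ∀ j, x j ∈ aug R (Φ.B (n + 1))} := fun n =>
    Nat.rec (motive := fun n => {x : Fin d → Φ.B (n + 1) // ∀ j, x j ∈ aug R (Φ.B (n + 1))})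
      ⟨s, fun j => by
        have : s j ∈ Submodule.span R (Set.range s) := Submodule.subset_span ⟨j, rfl⟩
        rw [hs] at this
        exact this⟩
      (fun n x => ⟨fun j => Classical.choose (exists_res_aug Φ (n + 1) (x.2 j)), fun j =>
        (Classical.choose_spec (exists_res_aug Φ (n + 1) (x.2 j))).1⟩) n
  refine ⟨d, ⟨⟨fun n => (Y n).1, fun n => (Y n).2, fun n j => ?_, fun y hy => ?_⟩⟩⟩
  · exact (Classical.choose_spec (exists_res_aug Φ (n + 1) ((Y n).2 j))).2
  · have h2 : y ∈ Submodule.span R (Set.range s) := by rw [hs]; exact hy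
    obtain ⟨c, hc⟩ := (Submodule.mem_span_range_iff_exists_fun R).1 h2
    exact ⟨c, by rw [Fintype.linearCombination_apply]; exact hc.symm⟩

variable {Φ} {d : ℕ} (C : Chain Φ d)

namespace Chain

/-- The map `R ^ d → B (n + 1)`. -/
noncomputable def L (n : ℕ) : (Fin d → R) →ₗ[R] Φ.B (n + 1) := Fintype.linearCombination R (C.X n)

theorem L_mem (n : ℕ) (v : Fin d → R) : C.L n v ∈ aug R (Φ.B (n + 1)) := by
  rw [L, Fintype.linearCombination_apply]
  exact Ideal.sum_mem _ fun j _ => smul_mem' _ (C.mem n j)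

theorem res_L (n : ℕ) (v : Fin d → R) : Φ.res (n + 1) (C.L (n + 1) v) = C.L n v := by
  rw [L, L, Fintype.linearCombination_apply, Fintype.linearCombination_apply, map_sum]
  refine Finset.sum_congr rfl fun j _ => ?_
  rw [map_smul, C.res]

/-- The kernel of `R ^ d → ω_(n+1)`. -/
noncomputable def N (n : ℕ) : Submodule R (Fin d → R) := ((aug R (Φ.B (n + 1)) ^ 2).restrictScalars R).comap (C.L n)

theorem mem_N {n : ℕ} {v : Fin d → R} : v ∈ C.N n ↔ C.L n v ∈ aug R (Φ.B (n + 1)) ^ 2 := Iff.rfl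

theorem N_succ_le (n : ℕ) : C.N (n + 1) ≤ C.N n := by
  intro v hv
  rw [mem_N] at hv ⊢
  rw [← C.res_L]
  exact res_sq Φ (n + 1) hv

theorem N_anti : Antitone C.N := antitone_nat_of_succ_le C.N_succ_le

variable [IsDomain R]

theorem pow_smul_mem_N (n : ℕ) (v : Fin d → R) : ((p : R) ^ (n + 1)) • v ∈ C.N n := by
  rw [mem_N, map_smul]
  exact pow_smul_mem Φ (n + 1) (C.L_mem n v)

variable [IsDiscreteValuationRing R] [CharZero R]

theorem spans (n : ℕ) : ∀ y ∈ aug R (Φ.B (n + 1)), ∃ v : Fin d → R, y - C.L n v ∈ aug R (Φ.B (n + 1)) ^ 2 := by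
  induction n with
  | zero =>
    intro y hy
    obtain ⟨v, hv⟩ := C.span y hy
    refine ⟨v, ?_⟩
    rw [hv, L, sub_self]
    exact Ideal.zero_mem _
  | succ n ih =>
    have step : ∀ y ∈ aug R (Φ.B (n + 1 + 1)), ∃ (v : Fin d → R) (z : Φ.B (n + 1 + 1)),
        z ∈ aug R (Φ.B (n + 1 + 1)) ∧ y - (C.L (n + 1) v + ((p : R) ^ (n + 1)) • z) ∈ aug R (Φ.B (n + 1 + 1)) ^ 2 := by
      intro y hy
      obtain ⟨v, hv⟩ := ih _ (bialgHom_mem_aug (Φ.res (n + 1)) hy)
      rw [← C.res_L, ← map_sub] at hv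
      obtain ⟨z, hz, hz2⟩ := exists_sub_mem Φ (n + 1) hv
      exact ⟨v, z, hz, by rw [← sub_sub]; exact hz2⟩
    intro y hy
    obtain ⟨v, z, hz, hz2⟩ := step y hy
    obtain ⟨v', z', hz', hz'2⟩ := step z hz
    refine ⟨v + ((p : R) ^ (n + 1)) • v', ?_⟩
    have h1 := smul_mem' ((p : R) ^ (n + 1)) hz'2
    have h2 : ((p : R) ^ (n + 1)) • ((p : R) ^ (n + 1)) • z' ∈ aug R (Φ.B (n + 1 + 1)) ^ 2 := by
      have h3 := smul_mem' ((p : R) ^ n) (pow_smul_mem Φ (n + 1 + 1) hz')
      rw [smul_smul, ← pow_add] at h3 ⊢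
      have h4 : n + (n + 1 + 1) = n + 1 + (n + 1) := by ring
      rwa [h4] at h3
    have h3 := Ideal.add_mem _ (Ideal.add_mem _ hz2 h1) h2
    convert h3 using 1
    rw [map_add, map_smul, smul_sub, smul_add]
    ring

theorem exists_sub_mem_N (n : ℕ) {v : Fin d → R} (hv : v ∈ C.N n) :
    ∃ w, v - ((p : R) ^ (n + 1)) • w ∈ C.N (n + 1) := by
  rw [mem_N, ← C.res_L] at hv
  obtain ⟨y, hy, hy2⟩ := exists_sub_mem Φ (n + 1) hv
  obtain ⟨w, hw⟩ := C.spans (n + 1) y hy
  refine ⟨w, ?_⟩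
  rw [mem_N, map_sub, map_smul]
  have h1 := Ideal.add_mem _ hy2 (smul_mem' ((p : R) ^ (n + 1)) hw)
  convert h1 using 1
  rw [smul_sub]
  ring

/-- The intersection of the kernels. -/
noncomputable def NN : Submodule R (Fin d → R) := ⨅ n, C.N n

theorem exists_sub_mem_NN [IsAdicComplete (IsLocalRing.maximalIdeal R) R]
    (hp : (p : R) ∈ IsLocalRing.maximalIdeal R) (hp0 : (p : R) ≠ 0) (n : ℕ) {v : Fin d → R} (hv : v ∈ C.N n) :
    ∃ w, v - ((p : R) ^ (n + 1)) • w ∈ C.NN := by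
  choose! c hc using fun (k : ℕ) (v : Fin d → R) (hv : v ∈ C.N k) => C.exists_sub_mem_N k hv
  let s : ℕ → (Fin d → R) := fun k => Nat.rec (motive := fun _ => Fin d → R) v
    (fun k s => s - ((p : R) ^ (n + k + 1)) • c (n + k) s) k
  have hs0 : s 0 = v := rfl
  have hs1 : ∀ k, s (k + 1) = s k - ((p : R) ^ (n + k + 1)) • c (n + k) (s k) := fun k => rfl
  have hs : ∀ k, s k ∈ C.N (n + k) := by
    intro k
    induction k with
    | zero => exact hv
    | succ k ih => rw [hs1]; exact hc _ _ ih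
  obtain ⟨W, hW⟩ := exists_lim_pi hp hp0 (fun k => c (n + k) (s k))
  refine ⟨W, ?_⟩
  have hsum : ∀ k, s k = v - ((p : R) ^ (n + 1)) • ∑ i ∈ Finset.range k, (p : R) ^ i • c (n + i) (s i) := by
    intro k
    induction k with
    | zero => rw [Finset.sum_range_zero, smul_zero, sub_zero, hs0]
    | succ k ih =>
      rw [hs1, Finset.sum_range_succ, smul_add, smul_smul, ← pow_add]
      have h4 : n + 1 + k = n + k + 1 := by ring
      rw [h4, ← sub_sub, ← ih]
  rw [NN, Submodule.mem_iInf]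
  intro m
  obtain ⟨b, hb⟩ := hW m
  have h1 : v - ((p : R) ^ (n + 1)) • W = s m - ((p : R) ^ (n + m + 1)) • b := by
    rw [hsum, hb, smul_add, smul_smul, ← pow_add]
    have h4 : n + 1 + m = n + m + 1 := by ring
    rw [h4, sub_sub]
  rw [h1]
  refine C.N_anti (Nat.le_add_left m n) ?_
  exact Submodule.sub_mem _ (hs m) (C.pow_smul_mem_N (n + m) b)

/-- `v` represents `b` in the cotangent space. -/
def Rep (n : ℕ) (b : Φ.B (n + 1)) (v : Fin d → R) : Prop :=
  b - algebraMap R _ (Coalgebra.counit (R := R) b) - C.L n v ∈ aug R (Φ.B (n + 1)) ^ 2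

theorem exists_rep (n : ℕ) (b : Φ.B (n + 1)) : ∃ v, C.Rep n b v := C.spans n _ (sub_mem_aug b)

omit [IsDomain R] [IsDiscreteValuationRing R] [CharZero R]

theorem Rep.sub_mem {n : ℕ} {b : Φ.B (n + 1)} {v w : Fin d → R} (hv : C.Rep n b v) (hw : C.Rep n b w) :
    v - w ∈ C.N n := by
  rw [mem_N, map_sub]
  have := Ideal.sub_mem _ hw hv
  convert this using 1
  ring

theorem Rep.mul {n : ℕ} {a b : Φ.B (n + 1)} {v w : Fin d → R} (hv : C.Rep n a v) (hw : C.Rep n b w) :
    C.Rep n (a * b) (Coalgebra.counit (R := R) a • w + Coalgebra.counit (R := R) b • v) := by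
  have h1 : (a - algebraMap R _ (Coalgebra.counit (R := R) a)) * (b - algebraMap R _ (Coalgebra.counit (R := R) b)) ∈
      aug R (Φ.B (n + 1)) ^ 2 := by
    rw [pow_two]; exact Ideal.mul_mem_mul (sub_mem_aug a) (sub_mem_aug b)
  have h2 := Ideal.add_mem _ (Ideal.add_mem _ h1 (smul_mem' (Coalgebra.counit (R := R) a) hw))
    (smul_mem' (Coalgebra.counit (R := R) b) hv)
  unfold Rep
  convert h2 using 1
  rw [Bialgebra.counit_mul, map_add, map_smul, map_smul, map_mul]
  simp only [Algebra.smul_def]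
  ring

theorem Rep.res {n : ℕ} {b : Φ.B (n + 1 + 1)} {v : Fin d → R} (hv : C.Rep (n + 1) b v) :
    C.Rep n (Φ.res (n + 1) b) v := by
  have h1 := res_sq Φ (n + 1) hv
  rw [map_sub, map_sub, C.res_L, AlgHomClass.commutes] at h1
  unfold Rep
  rw [CoalgHomClass.counit_comp_apply]
  exact h1

theorem rep_L (n : ℕ) (v : Fin d → R) : C.Rep n (C.L n v) v := by
  unfold Rep
  rw [mem_aug.1 (C.L_mem n v), map_zero, sub_zero, sub_self]
  exact Ideal.zero_mem _

variable [IsDomain R] [IsDiscreteValuationRing R] [CharZero R]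
  [IsAdicComplete (IsLocalRing.maximalIdeal R) R]
  (hp : (p : R) ∈ IsLocalRing.maximalIdeal R) (hp0 : (p : R) ≠ 0)

include hp hp0

theorem dvd_of_mem (ℓ : (Fin d → R) →ₗ[R] R) (hℓ : ∀ v ∈ C.NN, ℓ v = 0) (n : ℕ) {v : Fin d → R} (hv : v ∈ C.N n) :
    (p : R) ^ (n + 1) ∣ ℓ v := by
  obtain ⟨w, hw⟩ := C.exists_sub_mem_NN hp hp0 n hv
  have h1 := hℓ _ hw
  rw [map_sub, map_smul, sub_eq_zero, smul_eq_mul] at h1
  exact ⟨_, h1⟩

theorem exists_lin (ℓ : (Fin d → R) →ₗ[R] R) (hℓ : ∀ v ∈ C.NN, ℓ v = 0) (n : ℕ) :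
    ∃ t : Φ.B (n + 1) →ₗ[R] R, ∀ b v, C.Rep n b v → (p : R) ^ (n + 1) ∣ t b - ℓ v := by
  let e := Module.Free.chooseBasis R (Φ.B (n + 1))
  choose V hV using fun i => C.exists_rep n (e i)
  refine ⟨e.constr R (fun i => ℓ (V i)), fun b v hv => ?_⟩
  have h1 : C.Rep n b (∑ i, e.repr b i • V i) := by
    unfold Rep
    have h2 : b - algebraMap R _ (Coalgebra.counit (R := R) b) - C.L n (∑ i, e.repr b i • V i) =
        ∑ i, e.repr b i • (e i - algebraMap R _ (Coalgebra.counit (R := R) (e i)) - C.L n (V i)) := by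
      simp only [smul_sub, Finset.sum_sub_distrib, map_sum, map_smul]
      congr 1
      congr 1
      · exact (e.sum_repr b).symm
      · conv_lhs => rw [← e.sum_repr b]
        rw [map_sum, map_sum]
        refine Finset.sum_congr rfl fun i _ => ?_
        rw [map_smul, smul_eq_mul, map_mul, Algebra.smul_def]
    rw [h2]
    exact Ideal.sum_mem _ fun i _ => smul_mem' _ (hV i)
  have h2 := C.dvd_of_mem hp hp0 ℓ hℓ n (Rep.sub_mem C h1 hv)
  rw [map_sub] at h2
  have h3 : e.constr R (fun i => ℓ (V i)) b = ℓ (∑ i, e.repr b i • V i) := by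
    rw [map_sum, Module.Basis.constr_apply_fintype]
    refine Finset.sum_congr rfl fun i _ => ?_
    rw [map_smul]
    rfl
  rwa [h3]

theorem exists_lie (ℓ : (Fin d → R) →ₗ[R] R) (hℓ : ∀ v ∈ C.NN, ℓ v = 0) :
    ∃ t : ∀ n, Φ.B n →ₗ[R] R, Φ.IsLie t ∧ ∀ v, (p : R) ∣ t 1 (C.L 0 v) - ℓ v := by
  choose T hT using fun n => C.exists_lin hp hp0 ℓ hℓ n
  let t : ∀ n, Φ.B n →ₗ[R] R := fun n => Nat.rec (motive := fun n => Φ.B n →ₗ[R] R) 0 (fun n _ => T n) n
  have ht : ∀ n, t (n + 1) = T n := fun n => rfl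
  refine ⟨t, ⟨fun n a b => ?_, fun n b => ?_⟩, fun v => ?_⟩
  · cases n with
    | zero => rw [pow_zero]; exact one_dvd _
    | succ n =>
      obtain ⟨v, hv⟩ := C.exists_rep n a
      obtain ⟨w, hw⟩ := C.exists_rep n b
      obtain ⟨x, hx⟩ := hT n _ _ (Rep.mul C hv hw)
      obtain ⟨y, hy⟩ := hT n _ _ hv
      obtain ⟨z, hz⟩ := hT n _ _ hw
      rw [map_add, map_smul, map_smul, smul_eq_mul, smul_eq_mul] at hx
      rw [ht]
      exact ⟨x - Coalgebra.counit (R := R) a * z - Coalgebra.counit (R := R) b * y, by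
        linear_combination hx - Coalgebra.counit (R := R) a * hz - Coalgebra.counit (R := R) b * hy⟩
  · cases n with
    | zero => rw [pow_zero]; exact one_dvd _
    | succ n =>
      obtain ⟨v, hv⟩ := C.exists_rep (n + 1) b
      obtain ⟨x, hx⟩ := hT (n + 1) _ _ hv
      obtain ⟨y, hy⟩ := hT n _ _ (Rep.res C hv)
      rw [ht, ht]
      exact ⟨(p : R) * x - y, by linear_combination hx - hy⟩
  · have h1 := hT 0 _ _ (C.rep_L 0 v)
    have h2 : (p : R) ∣ (p : R) ^ (0 + 1) := by rw [zero_add, pow_one]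
    exact h2.trans h1

end Chain

end chain

section main

variable {R : Type u} [CommRing R] [IsDomain R] [IsDiscreteValuationRing R] [CharZero R]
  [IsAdicComplete (IsLocalRing.maximalIdeal R) R] {p h : ℕ}

omit [CharZero R] [IsAdicComplete (IsLocalRing.maximalIdeal R) R] in
/-- The arithmetic of the inequality. -/
theorem dvd_of_forall {p δ A : R} (hp0 : p ≠ 0) (hδ : δ ≠ 0) (hA : A ≠ 0) (r : ℕ)
    (H : ∀ m : ℕ, δ ^ (m + 1) ∣ A * p ^ ((m + 1) * r)) : δ ∣ p ^ r := by
  obtain ⟨ϖ, hϖ⟩ := IsDiscreteValuationRing.exists_irreducible R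
  obtain ⟨a, ha⟩ := IsDiscreteValuationRing.associated_pow_irreducible hδ hϖ
  obtain ⟨e, he⟩ := IsDiscreteValuationRing.associated_pow_irreducible hp0 hϖ
  obtain ⟨c, hc⟩ := IsDiscreteValuationRing.associated_pow_irreducible hA hϖ
  have h1 := H c
  have h2 : ϖ ^ (a * (c + 1)) ∣ ϖ ^ (c + e * ((c + 1) * r)) := by
    rw [pow_mul ϖ a (c + 1), pow_add ϖ c, pow_mul ϖ e]
    exact (ha.pow_pow.symm.dvd.trans h1).trans (hc.mul_mul he.pow_pow).dvd
  have h3 : a * (c + 1) ≤ c + e * ((c + 1) * r) := (pow_dvd_pow_iff hϖ.ne_zero hϖ.not_isUnit).1 h2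
  have h4 : a ≤ e * r := by
    by_contra hcon
    push Not at hcon
    have h5 : (e * r + 1) * (c + 1) ≤ a * (c + 1) := Nat.mul_le_mul_right _ hcon
    have h6 : (e * r + 1) * (c + 1) = c + e * ((c + 1) * r) + 1 := by ring
    omega
  refine ha.dvd.trans ((pow_dvd_pow ϖ h4).trans ?_)
  rw [pow_mul]
  exact he.pow_pow.symm.dvd

theorem exists_lie_rank (hp : (p : R) ∈ IsLocalRing.maximalIdeal R) (hp0 : (p : R) ≠ 0) (Φ : Sys R p h) :
    ∃ (r : ℕ) (t : Fin r → ∀ n, Φ.B n →ₗ[R] R), (∀ j, Φ.IsLie (t j)) ∧ (p : R) ^ r ∈ trI R (Φ.B 1) ∧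
    ∀ c : Fin r → R, (∀ b : Φ.B 1, ∑ j, c j * t j 1 b ∈ IsLocalRing.maximalIdeal R) →
      ∀ j, c j ∈ IsLocalRing.maximalIdeal R := by
  classical
  obtain ⟨d, ⟨C⟩⟩ := exists_chain Φ
  obtain ⟨s, S⟩ := Submodule.smithNormalForm (Pi.basisFun R (Fin d)) C.NN
  let J := {i : Fin d // i ∉ Set.range S.f}
  let e0 : Fin (Fintype.card J) ≃ J := (Fintype.equivFin J).symm
  have hcoord : ∀ (i : J) (v : Fin d → R), v ∈ C.NN → S.bM.coord i.1 v = 0 := by
    intro i v hv
    have h1 : (⟨v, hv⟩ : C.NN) = ∑ k, S.bN.repr ⟨v, hv⟩ k • S.bN k := (S.bN.sum_repr _).symm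
    have h2 : v = ∑ k, S.bN.repr ⟨v, hv⟩ k • (S.bN k : Fin d → R) := by
      have := congrArg (C.NN.subtype) h1
      rw [map_sum] at this
      exact this
    rw [h2, map_sum]
    refine Finset.sum_eq_zero fun k _ => ?_
    rw [map_smul, S.snf, map_smul, Module.Basis.coord_apply, Module.Basis.repr_self,
      Finsupp.single_apply, if_neg (fun h => i.2 ⟨k, h⟩), smul_zero, smul_zero]
  choose t ht ht1 using fun j => C.exists_lie hp hp0 (S.bM.coord (e0 j).1) (hcoord (e0 j))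
  refine ⟨Fintype.card J, t, ht, ?_, fun c hc j => ?_⟩
  · -- Lenstra's inequality on all layers
    have hA : ∏ k, S.a k ≠ 0 := by
      refine Finset.prod_ne_zero_iff.2 fun k _ h0 => ?_
      have h1 := S.snf k
      rw [h0, zero_smul] at h1
      exact S.bN.ne_zero k (Subtype.ext h1)
    let rr : ℕ → Fin d → R := fun m i => if hi : i ∈ Set.range S.f then S.a hi.choose else (p : R) ^ (m + 1)
    have hrr : ∀ m, ∏ i, rr m i = (∏ k, S.a k) * (p : R) ^ ((m + 1) * Fintype.card J) := by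
      intro m
      rw [← Fintype.prod_subtype_mul_prod_subtype (fun i => i ∈ Set.range S.f) (rr m)]
      have hA1 : (∏ k, S.a k) = ∏ i : {i // i ∈ Set.range S.f}, rr m i.1 := by
        refine Fintype.prod_equiv (Equiv.ofInjective S.f S.f.injective) (fun k => S.a k) (fun i => rr m i.1) fun k => ?_
        have hk : S.f k ∈ Set.range S.f := ⟨k, rfl⟩
        have h1 : rr m (S.f k) = S.a hk.choose := dif_pos hk
        have h2 : hk.choose = k := S.f.injective hk.choose_spec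
        rw [Equiv.ofInjective_apply, h1, h2]
      have hA2 : (∏ i : {i // ¬ i ∈ Set.range S.f}, rr m i.1) = (p : R) ^ ((m + 1) * Fintype.card J) := by
        have h1 : ∀ i : {i // ¬ i ∈ Set.range S.f}, rr m i.1 = (p : R) ^ (m + 1) := fun i => dif_neg i.2
        have h2 : (∏ i : {i // ¬ i ∈ Set.range S.f}, rr m i.1) =
            ∏ _i : {i // ¬ i ∈ Set.range S.f}, (p : R) ^ (m + 1) := Finset.prod_congr rfl fun i _ => h1 i
        rw [h2, Finset.prod_const, ← pow_mul]
        rfl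
      rw [hA1, ← hA2]
      congr!
    have key : ∀ m, ∏ i, rr m i ∈ trI R (Φ.B 1) ^ (m + 1) := by
      intro m
      rw [← trI_pow]
      refine TrNodes.nLen R (Φ.B (m + 1)) d (fun i => C.L m (S.bM i)) (rr m) (fun i => C.L_mem m _) ?_ (fun i => ?_)
      · intro y hy
        obtain ⟨v, hv⟩ := C.spans m y hy
        have h1 : C.L m v ∈ Ideal.span (Set.range fun i => C.L m (S.bM i)) := by
          rw [← S.bM.sum_repr v, map_sum]
          refine Ideal.sum_mem _ fun i _ => ?_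
          rw [map_smul, Algebra.smul_def]
          exact Ideal.mul_mem_left _ _ (Ideal.subset_span ⟨i, rfl⟩)
        have h2 := Submodule.add_mem_sup h1 hv
        rwa [add_sub_cancel] at h2
      · simp only [rr]
        split_ifs with hi
        · have h3 : (S.bN hi.choose : Fin d → R) ∈ C.NN := (S.bN hi.choose).2
          rw [S.snf, hi.choose_spec] at h3
          have h4 := (Submodule.mem_iInf _).1 h3 m
          rw [Chain.mem_N, map_smul] at h4
          exact h4
        · exact pow_smul_mem Φ (m + 1) (C.L_mem m _)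
    obtain ⟨δ, hδ⟩ := (IsPrincipalIdealRing.principal (trI R (Φ.B 1))).principal
    have hδ' : trI R (Φ.B 1) = Ideal.span {δ} := hδ
    have hδ0 : δ ≠ 0 := by
      rintro rfl
      have h1 : ((Module.finrank R (Φ.B 1) : ℕ) : R) ∈ trI R (Φ.B 1) := ⟨1, TrMul.trace_one _⟩
      rw [hδ', Ideal.mem_span_singleton, zero_dvd_iff] at h1
      exact finrank_ne_zero (R := R) (B := Φ.B 1) h1
    rw [hδ', Ideal.mem_span_singleton]
    refine dvd_of_forall hp0 hδ0 hA _ fun m => ?_
    have h1 := key m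
    rw [hrr, hδ', Ideal.span_singleton_pow, Ideal.mem_span_singleton] at h1
    exact h1
  · have h1 := hc (C.L 0 (S.bM (e0 j).1))
    have h2 : (∑ j', c j' * t j' 1 (C.L 0 (S.bM (e0 j).1))) - c j ∈ IsLocalRing.maximalIdeal R := by
      have h3 : c j = ∑ j', c j' * S.bM.coord (e0 j').1 (S.bM (e0 j).1) := by
        rw [Finset.sum_eq_single j]
        · rw [Module.Basis.coord_apply, Module.Basis.repr_self, Finsupp.single_eq_same, mul_one]
        · intro j' _ hj'
          rw [Module.Basis.coord_apply, Module.Basis.repr_self, Finsupp.single_apply, if_neg, mul_zero]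
          intro h
          exact hj' (e0.injective (Subtype.ext h)).symm
        · intro h; exact absurd (Finset.mem_univ j) h
      rw [h3, ← Finset.sum_sub_distrib]
      refine Ideal.sum_mem _ fun j' _ => ?_
      rw [← mul_sub]
      exact Ideal.mul_mem_left _ _ (Ideal.mem_of_dvd _ (ht1 j' _) hp)
    have h3 := Ideal.sub_mem _ h1 h2
    rwa [sub_sub_cancel] at h3

end main

theorem nLie : NLie.{u} := by
  intro R _ _ _ _ _ p h _ hp Φ
  refine exists_lie_rank hp ?_ Φ
  rw [Nat.cast_ne_zero]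
  exact (Fact.out : p.Prime).ne_zero

end K497.LieRank
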