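import Groth.Agent.SGA7.K564.Tate.BC
import Mathlib.LinearAlgebra.Dual.BaseChange

/-!
# The Cartier dual and base change

`dbc K B : K ⊗[R] D R B ≃ₐc[K] D K (K ⊗[R] B)` for a finite free commutative cocommutative Hopf algebra `B` over `R`,
natural in `B`.
-/

set_option autoImplicit false
set_option linter.unusedSectionVars false
universe u

open TensorProduct CartDual K564.Tate

namespace K497.DualBC

variable {R : Type u} [CommRing R] (K : Type u) [CommRing K] [Algebra R K]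

section gen

variable {A C : Type u} [CommRing A] [Bialgebra R A] [CommRing C] [Bialgebra K C]

theorem comul_one_tmul' (b : A) : Coalgebra.comul (R := K) ((1 : K) ⊗ₜ[R] b) =
    TensorProduct.AlgebraTensorModule.distribBaseChange R K A A ((1 : K) ⊗ₜ[R] (Coalgebra.comul (R := R) b)) := by
  rw [TensorProduct.comul_tmul, CommSemiring.comul_apply]
  generalize Coalgebra.comul (R := R) b = z
  induction z using TensorProduct.induction_on with
  | zero => simp only [tmul_zero, map_zero]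
  | tmul x y => simp
  | add x y hx hy => simp only [tmul_add, map_add, hx, hy]

theorem counit_one_tmul' (b : A) : Coalgebra.counit (R := K) ((1 : K) ⊗ₜ[R] b) =
    algebraMap R K (Coalgebra.counit (R := R) b) := by
  rw [TensorProduct.counit_tmul, Algebra.smul_def]
  simp

variable {K}

/-- the algebra map given by a linear map on the base change -/
theorem mul_of_one (f : K ⊗[R] A →ₗ[K] C) (hm : ∀ x y : A, f (1 ⊗ₜ (x * y)) = f (1 ⊗ₜ x) * f (1 ⊗ₜ y))
    (z w : K ⊗[R] A) : f (z * w) = f z * f w := by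
  induction z using TensorProduct.induction_on with
  | zero => rw [zero_mul, map_zero, zero_mul]
  | add x y hx hy => rw [add_mul, map_add, hx, hy, map_add, add_mul]
  | tmul c x =>
    induction w using TensorProduct.induction_on with
    | zero => rw [mul_zero, map_zero, mul_zero]
    | add x y hx hy => rw [mul_add, map_add, hx, hy, map_add, mul_add]
    | tmul d y =>
      have e1 : c ⊗ₜ[R] x = c • ((1 : K) ⊗ₜ[R] x) := by rw [smul_tmul', smul_eq_mul, mul_one]
      have e2 : d ⊗ₜ[R] y = d • ((1 : K) ⊗ₜ[R] y) := by rw [smul_tmul', smul_eq_mul, mul_one]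
      rw [e1, e2, smul_mul_smul_comm, Algebra.TensorProduct.tmul_mul_tmul, one_mul, map_smul, map_smul, map_smul,
        hm, smul_mul_smul_comm]

theorem algHom_ext_one {E : Type u} [Semiring E] [Algebra K E] {f g : K ⊗[R] A →ₐ[K] E}
    (h : ∀ a : A, f (1 ⊗ₜ a) = g (1 ⊗ₜ a)) : f = g := by
  apply AlgHom.ext
  intro z
  induction z using TensorProduct.induction_on with
  | zero => rw [map_zero, map_zero]
  | tmul r b =>
    have : r ⊗ₜ[R] b = r • ((1 : K) ⊗ₜ[R] b) := by rw [smul_tmul', smul_eq_mul, mul_one]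
    rw [this, map_smul, map_smul, h]
  | add x y hx hy => rw [map_add, map_add, hx, hy]

/-- a bialgebra map on a base change, from a linear map -/
theorem exists_bialgOf (f : K ⊗[R] A →ₗ[K] C) (h1 : f (1 ⊗ₜ 1) = 1)
    (hm : ∀ x y : A, f (1 ⊗ₜ (x * y)) = f (1 ⊗ₜ x) * f (1 ⊗ₜ y))
    (hc : ∀ x : A, Coalgebra.counit (R := K) (f (1 ⊗ₜ x)) = algebraMap R K (Coalgebra.counit (R := R) x))
    (hcm : ∀ x : A, Coalgebra.comul (R := K) (f (1 ⊗ₜ x)) =
      TensorProduct.map f f (Coalgebra.comul (R := K) ((1 : K) ⊗ₜ[R] x))) :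
    ∃ g : K ⊗[R] A →ₐc[K] C, ∀ z, g z = f z := by
  let fa : K ⊗[R] A →ₐ[K] C := AlgHom.ofLinearMap f h1 (mul_of_one f hm)
  have hfa : ∀ z, fa z = f z := fun _ ↦ rfl
  refine ⟨BialgHom.ofAlgHom fa ?_ ?_, hfa⟩
  · apply algHom_ext_one
    intro x
    exact (hc x).trans (counit_one_tmul' K x).symm
  · apply algHom_ext_one
    intro x
    exact (hcm x).symm

omit [Algebra R K] [CommRing R] in
theorem exists_bialgEquiv {A C : Type u} [CommRing A] [Bialgebra K A] [CommRing C] [Bialgebra K C] (f : A →ₐc[K] C)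
    (h : Function.Bijective f) : ∃ e : A ≃ₐc[K] C, ∀ z, e z = f z :=
  ⟨BialgEquiv.ofBijective f h, fun _ ↦ rfl⟩

end gen

section one

variable {B : Type u} [CommRing B] [HopfAlgebra R B] [Coalgebra.IsCocomm R B] [Module.Finite R B] [Module.Free R B]

variable (B) in
/-- the base change of the dual, as a linear equivalence -/
noncomputable def dl : K ⊗[R] D R B ≃ₗ[K] D K (K ⊗[R] B) :=
  (TensorProduct.AlgebraTensorModule.congr (LinearEquiv.refl K K) (toDual R B)) ≪≫ₗ
    (TensorProduct.isBaseChange R B K).toDualBaseChange ≪≫ₗ (toDual K (K ⊗[R] B)).symm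

theorem dl_tmul (c : K) (x : D R B) (b : B) : (dl K B (c ⊗ₜ x)).ofConv (1 ⊗ₜ b) = c * algebraMap R K (x.ofConv b) :=
  (TensorProduct.isBaseChange R B K).toDualBaseChange_tmul c x.ofConv b

theorem ext_one {x y : D K (K ⊗[R] B)} (h : ∀ b : B, x.ofConv (1 ⊗ₜ b) = y.ofConv (1 ⊗ₜ b)) : x = y := by
  apply WithConv.ofConv_injective
  apply LinearMap.ext
  intro z
  induction z using TensorProduct.induction_on with
  | zero => rw [map_zero, map_zero]
  | tmul r b =>
    have : r ⊗ₜ[R] b = r • ((1 : K) ⊗ₜ[R] b) := by rw [smul_tmul', smul_eq_mul, mul_one]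
    rw [this, map_smul, map_smul, h]
  | add x y hx hy => rw [map_add, map_add, hx, hy]

theorem map_dl (x y : D R B) (z : B ⊗[R] B) :
    LinearMap.mul' K K (TensorProduct.map (dl K B (1 ⊗ₜ x)).ofConv (dl K B (1 ⊗ₜ y)).ofConv
      (TensorProduct.AlgebraTensorModule.distribBaseChange R K B B ((1 : K) ⊗ₜ[R] z))) =
      algebraMap R K (LinearMap.mul' R R (TensorProduct.map x.ofConv y.ofConv z)) := by
  induction z using TensorProduct.induction_on with
  | zero => simp only [tmul_zero, map_zero]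
  | tmul a b =>
    have e : TensorProduct.AlgebraTensorModule.distribBaseChange R K B B ((1 : K) ⊗ₜ[R] (a ⊗ₜ[R] b)) =
      ((1 : K) ⊗ₜ[R] a) ⊗ₜ[K] ((1 : K) ⊗ₜ[R] b) := by simp
    rw [e, TensorProduct.map_tmul, LinearMap.mul'_apply, dl_tmul, dl_tmul, one_mul, one_mul, TensorProduct.map_tmul,
      LinearMap.mul'_apply, map_mul]
  | add x y hx hy => simp only [tmul_add, map_add, hx, hy]

theorem dl_one_mul (x y : D R B) : dl K B (1 ⊗ₜ (x * y)) = dl K B (1 ⊗ₜ x) * dl K B (1 ⊗ₜ y) := by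
  apply ext_one
  intro b
  have h1 : (dl K B (1 ⊗ₜ x) * dl K B (1 ⊗ₜ y)).ofConv (1 ⊗ₜ b) = LinearMap.mul' K K
      (TensorProduct.map (dl K B (1 ⊗ₜ x)).ofConv (dl K B (1 ⊗ₜ y)).ofConv (Coalgebra.comul (R := K) ((1 : K) ⊗ₜ[R] b))) := rfl
  rw [h1, comul_one_tmul', map_dl, dl_tmul, one_mul]
  rfl

theorem dl_one : dl K B (1 ⊗ₜ (1 : D R B)) = 1 := by
  apply ext_one
  intro b
  rw [dl_tmul, one_mul]
  have h1 : (1 : D R B).ofConv b = Coalgebra.counit (R := R) b := by
    simp [LinearMap.convOne_def]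
  have h2 : (1 : D K (K ⊗[R] B)).ofConv (1 ⊗ₜ b) = Coalgebra.counit (R := K) ((1 : K) ⊗ₜ[R] b) := by
    simp [LinearMap.convOne_def]
  rw [h1, h2, counit_one_tmul']

/-- the comultiplication of the dual -/
theorem ev₂_dl (y : D R B ⊗[R] D R B) (a b : B) :
    ev₂ K (K ⊗[R] B) (TensorProduct.map (dl K B).toLinearMap (dl K B).toLinearMap
      (TensorProduct.AlgebraTensorModule.distribBaseChange R K (D R B) (D R B) ((1 : K) ⊗ₜ[R] y)))
        (((1 : K) ⊗ₜ[R] a) ⊗ₜ[K] ((1 : K) ⊗ₜ[R] b)) = algebraMap R K (ev₂ R B y (a ⊗ₜ b)) := by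
  induction y using TensorProduct.induction_on with
  | zero => simp only [tmul_zero, map_zero, LinearMap.zero_apply]
  | tmul x y =>
    have e : TensorProduct.AlgebraTensorModule.distribBaseChange R K (D R B) (D R B) ((1 : K) ⊗ₜ[R] (x ⊗ₜ[R] y)) =
      ((1 : K) ⊗ₜ[R] x) ⊗ₜ[K] ((1 : K) ⊗ₜ[R] y) := by simp
    rw [e, TensorProduct.map_tmul, ev₂_tmul, ev₂_tmul, map_mul]
    have h1 : ((dl K B).toLinearMap (1 ⊗ₜ[R] x)) (1 ⊗ₜ[R] a) = algebraMap R K (x a) :=
      (dl_tmul K 1 x a).trans (one_mul _)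
    have h2 : ((dl K B).toLinearMap (1 ⊗ₜ[R] y)) (1 ⊗ₜ[R] b) = algebraMap R K (y b) :=
      (dl_tmul K 1 y b).trans (one_mul _)
    rw [h1, h2]
  | add x y hx hy => simp only [tmul_add, map_add, LinearMap.add_apply, hx, hy]

theorem ev₂_ext {x y : D K (K ⊗[R] B) ⊗[K] D K (K ⊗[R] B)} (h : ∀ a b : B,
    ev₂ K (K ⊗[R] B) x (((1 : K) ⊗ₜ[R] a) ⊗ₜ[K] ((1 : K) ⊗ₜ[R] b)) =
      ev₂ K (K ⊗[R] B) y (((1 : K) ⊗ₜ[R] a) ⊗ₜ[K] ((1 : K) ⊗ₜ[R] b))) : x = y := by
  apply (ev₂ K (K ⊗[R] B)).injective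
  apply TensorProduct.ext'
  intro p q
  have e1 : ∀ (c : K) (a : B), c ⊗ₜ[R] a = c • ((1 : K) ⊗ₜ[R] a) := fun c a ↦ by
    rw [smul_tmul', smul_eq_mul, mul_one]
  induction p using TensorProduct.induction_on with
  | zero => rw [zero_tmul, map_zero, map_zero]
  | add p p' hx hy => rw [add_tmul, map_add, map_add, hx, hy]
  | tmul c a =>
    induction q using TensorProduct.induction_on with
    | zero => rw [tmul_zero, map_zero, map_zero]
    | add p p' hx hy => rw [tmul_add, map_add, map_add, hx, hy]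
    | tmul d b =>
      rw [e1 c a, e1 d b, smul_tmul_smul, map_smul, map_smul, h]

theorem comul_dl (x : D R B) : Coalgebra.comul (R := K) (dl K B (1 ⊗ₜ x)) =
    TensorProduct.map (dl K B).toLinearMap (dl K B).toLinearMap (Coalgebra.comul (R := K) ((1 : K) ⊗ₜ[R] x)) := by
  apply ev₂_ext
  intro a b
  rw [comul_def, ev₂_comul_tmul, comul_one_tmul', ev₂_dl, comul_def, ev₂_comul_tmul,
    Algebra.TensorProduct.tmul_mul_tmul, one_mul]
  exact (dl_tmul K 1 x (a * b)).trans (one_mul _)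

theorem counit_dl (x : D R B) : Coalgebra.counit (R := K) (dl K B (1 ⊗ₜ x)) =
    algebraMap R K (Coalgebra.counit (R := R) x) :=
  (dl_tmul K 1 x 1).trans (one_mul _)

variable (B) in
theorem exists_db : ∃ g : K ⊗[R] D R B →ₐc[K] D K (K ⊗[R] B), ∀ z, g z = dl K B z :=
  exists_bialgOf (R := R) (K := K) (A := D R B) (C := D K (K ⊗[R] B)) (dl K B).toLinearMap (dl_one K) (dl_one_mul K)
    (counit_dl K) (comul_dl K)

variable (B) in
/-- the bialgebra map -/
noncomputable def db : K ⊗[R] D R B →ₐc[K] D K (K ⊗[R] B) := (exists_db (R := R) K B).choose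

theorem db_apply (z : K ⊗[R] D R B) : db (R := R) K B z = dl K B z := (exists_db (R := R) K B).choose_spec z

variable (B) in
theorem bijective_db : Function.Bijective (db (R := R) K B) := by
  have h : ⇑(db (R := R) K B) = ⇑(dl (R := R) K B) := funext (db_apply K)
  rw [h]
  exact (dl (R := R) K B).bijective

variable (B) in
theorem exists_dbc : ∃ e : K ⊗[R] D R B ≃ₐc[K] D K (K ⊗[R] B), ∀ z, e z = dl K B z := by
  obtain ⟨e, he⟩ := exists_bialgEquiv (K := K) (A := K ⊗[R] D R B) (C := D K (K ⊗[R] B)) (db (R := R) K B)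
    (bijective_db K B)
  exact ⟨e, fun z ↦ (he z).trans (db_apply K z)⟩

variable (B) in
/-- **The Cartier dual commutes with base change.** -/
noncomputable def dbc : K ⊗[R] D R B ≃ₐc[K] D K (K ⊗[R] B) := (exists_dbc (R := R) K B).choose

theorem dbc_apply (z : K ⊗[R] D R B) : dbc (R := R) K B z = dl K B z := (exists_dbc (R := R) K B).choose_spec z

theorem dbc_one_tmul (x : D R B) (b : B) : (dbc K B (1 ⊗ₜ x)).ofConv (1 ⊗ₜ b) = algebraMap R K (x.ofConv b) := by
  rw [dbc_apply, dl_tmul, one_mul]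

end one

section nat

variable {B B' : Type u} [CommRing B] [HopfAlgebra R B] [Coalgebra.IsCocomm R B] [Module.Finite R B] [Module.Free R B]
  [CommRing B'] [HopfAlgebra R B'] [Coalgebra.IsCocomm R B'] [Module.Finite R B'] [Module.Free R B']

/-- naturality -/
theorem dbc_transpose (f : B →ₐc[R] B') :
    (dbc (R := R) K B : K ⊗[R] D R B →ₐc[K] D K (K ⊗[R] B)).comp (bcHom K (transpose R f)) =
      (transpose K (bcHom K f)).comp (dbc (R := R) K B' : K ⊗[R] D R B' →ₐc[K] D K (K ⊗[R] B')) := by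
  apply bcHom_ext
  intro x
  apply ext_one
  intro b
  change (dbc K B (1 ⊗ₜ transpose R f x)).ofConv (1 ⊗ₜ b) = (dbc K B' (1 ⊗ₜ x)).ofConv (1 ⊗ₜ f b)
  rw [dbc_one_tmul, dbc_one_tmul]
  rfl

end nat

end K497.DualBC
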