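import Groth.Agent.AgPol.K438.LambdaBC
import Groth.Agent.AbDual.K732.Lam
import Groth.Agent.AbDual.K732.DualField
import Groth.Agent.AbDual.K732.Isog
import Groth.Agent.AbVar.K517.Isog
import Groth.Agent.Sga5.AmpleFib
import Groth.Agent.S8121

/-!
# Polarisations over an arbitrary field

* `surjective_lam` : for an ample class on an abelian variety over ANY field the homomorphism `A ⟶ A^t` is surjective;
* `exists_quasi` : an abelian variety over a field, its dual, and homomorphisms `A ⟶ A^t`, `A^t ⟶ A` with both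
  composites multiplication by `N ≥ 1`.
-/

set_option autoImplicit false
set_option linter.unusedSectionVars false
universe u

open CategoryTheory CategoryTheory.Limits MonoidalCategory CartesianMonoidalCategory MonObj GrpObj
  AlgebraicGeometry

namespace K497.PolLam

open Groth.Agent.Grpsch.PicGrp K732.Dual K732.Lam

variable {K : Type u} [Field K] {A At : Over (Spec (CommRingCat.of K))} [GrpObj A] [GrpObj At]
  [IsProper A.hom] [Smooth A.hom] [GeometricallyConnected A.hom]
  {φ : ∀ T : Over (Spec (CommRingCat.of K)), PicF.Cl (PicF.XT A.hom T) → (T ⟶ At)}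
  (hD : AbDual.IsDualAV Scheme.fppfPrecoverage A At φ)

include hD in
theorem surjective_lam {L : A.left.Modules} (hL : CohB1.IsAmple L) :
    Surjective (lam φ (mk L hL.1)).left := by
  obtain ⟨q1, q2, q3, q4, -⟩ := K732.DualField.isAV hD
  have gA := K732.AV.geomInt A
  let t : Spec (CommRingCat.of (AlgebraicClosure K)) ⟶ Spec (CommRingCat.of K) :=
    Spec.map (CommRingCat.ofHom (algebraMap K (AlgebraicClosure K)))
  have ht : IsAffineHom t := inferInstanceAs (IsAffineHom (Spec.map _))
  have ht' : IsAffineHom (pullback.fst A.hom t) := MorphismProperty.pullback_fst _ _ ht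
  have a1 : IsProper (Red.bc t A).hom := inferInstanceAs (IsProper (pullback.snd A.hom t))
  have a2 : Smooth (Red.bc t A).hom := inferInstanceAs (Smooth (pullback.snd A.hom t))
  have a3 : GeometricallyConnected (Red.bc t A).hom :=
    inferInstanceAs (GeometricallyConnected (pullback.snd A.hom t))
  have b1 : IsProper (Red.bc t At).hom := inferInstanceAs (IsProper (pullback.snd At.hom t))
  have b2 : Smooth (Red.bc t At).hom := inferInstanceAs (Smooth (pullback.snd At.hom t))
  have b3 : GeometricallyConnected (Red.bc t At).hom :=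
    inferInstanceAs (GeometricallyConnected (pullback.snd At.hom t))
  have hD' := K732.BC.isDualAV_bc (k := t) hD
  have hL' : CohB1.IsAmple ((Scheme.Modules.pullback (pullback.fst A.hom t)).obj L) :=
    Groth.Agent.Sga5.AmpleFib.isAmple_pullback _ hL
  have h1 := K732.Lam.surjective_lam hD' (L := (Scheme.Modules.pullback (pullback.fst A.hom t)).obj L) hL'
  have h2 : (Over.pullback t).map (lam φ (mk L hL.1)) =
      lam (AgPol.bcDual t A At φ) (Groth.Agent.Grpsch.PicGrp.mk (X := (Red.bc t A).left)
        ((Scheme.Modules.pullback (pullback.fst A.hom t)).obj L) hL'.1) := by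
    have h3 := K814.MumHom.hom_bc hD t (mk L hL.1)
    rw [pull_mk] at h3
    exact h3
  rw [← h2] at h1
  have h4 : ((Over.pullback t).map (lam φ (mk L hL.1))).left ≫ pullback.fst At.hom t =
      pullback.fst A.hom t ≫ (lam φ (mk L hL.1)).left := pullback.lift_fst _ _ _
  have h5 : Surjective t := by
    refine ⟨fun x ↦ ?_⟩
    obtain ⟨y⟩ : Nonempty ↥(Spec (CommRingCat.of (AlgebraicClosure K))) := inferInstance
    exact ⟨y, Subsingleton.elim _ _⟩
  have h6 : Surjective (pullback.fst A.hom t ≫ (lam φ (mk L hL.1)).left) := by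
    rw [← h4]
    infer_instance
  exact Surjective.of_comp (pullback.fst A.hom t) _

variable (A) in
/-- A polarisation and its quasi-inverse. -/
theorem exists_quasi : ∃ (At : Over (Spec (CommRingCat.of K))) (_ : GrpObj At)
    (φ : ∀ T : Over (Spec (CommRingCat.of K)), PicF.Cl (PicF.XT A.hom T) → (T ⟶ At)),
    IsCommMonObj At ∧ AbDual.IsDualAV Scheme.fppfPrecoverage A At φ ∧ IsProper At.hom ∧
      Smooth At.hom ∧ GeometricallyConnected At.hom ∧
    ∃ (lm : A ⟶ At) (ps : At ⟶ A) (N : ℕ), 1 ≤ N ∧ IsMonHom lm ∧ IsMonHom ps ∧ lm ≫ ps = (𝟙 A) ^ N ∧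
      ps ≫ lm = (𝟙 At) ^ N := by
  obtain ⟨At, i1, φ, q1, hD, q2, q3, q4, q5⟩ := K732.DualField.exists_dual A
  have gA := K732.AV.geomInt A
  have gAt := K732.AV.geomInt At
  obtain ⟨L, hL, -⟩ := Groth.Agent.S8121.result K A
  have h1 := surjective_lam hD hL
  have h2 := isMonHom_lam hD (mk L hL.1)
  obtain ⟨n, v, hn, hv, h3, h4⟩ := K517.Isog.exists_rev_of_surjective (lam φ (mk L hL.1)) q5.ge
  exact ⟨At, i1, φ, q1, hD, q2, q3, q4, lam φ (mk L hL.1), v, n, hn, h2, hv, h3, h4⟩

end K497.PolLam
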