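import Groth.Agent.SGA7.K497.PolKC
import Groth.Agent.SGA7.K497.PolLam
import Groth.Agent.SGA7.K852.Dict
import Groth.Agent.Sga7.H760.KerBc
import Groth.Agent.Sga7.H301.Glue
import Groth.Agent.Grpsch.MulFinFlat
import Groth.Agent.Sga3C.SubGrp

/-!
# The polarisation on the torsion of an abelian variety, in terms of Hopf algebras (node POL)

For an abelian variety `A` over a field `K` and the coordinate rings `B n` of `A[p^n]`: homomorphisms
`u n : D_K(B n) → B n` and `v n : B n → D_K(B n)`, compatible with the transition maps of the two systems, both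
composites being the `N`-th convolution power of the identity, `N ≥ 1` independent of `n`.
-/

set_option autoImplicit false
set_option linter.unusedSectionVars false
universe u

open CategoryTheory CategoryTheory.Limits MonoidalCategory CartesianMonoidalCategory MonObj GrpObj
  AlgebraicGeometry TensorProduct

namespace K497.Pol

open CoactBr CartDual Groth.Agent.Books Groth.Agent.Books.AffBridge

section gen

variable {k : Type u} [Field k]

theorem pt_eq {A B : Type u} [CommRing A] [Algebra k A] [CommRing B] [Algebra k B] (f : A →ₐ[k] B) :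
    pt f = specMap k f := by
  ext1
  rfl

theorem isMonHom_pt {A B : Type u} [CommRing A] [Bialgebra k A] [CommRing B] [Bialgebra k B] (f : A →ₐc[k] B) :
    IsMonHom (pt (f : A →ₐ[k] B)) := by
  rw [pt_eq]
  exact isMonHom_specMap k f

theorem exists_bialg {A B : Type u} [CommRing A] [Bialgebra k A] [CommRing B] [Bialgebra k B]
    (f : sp k B ⟶ sp k A) (hf : IsMonHom f) : ∃ φ : A →ₐc[k] B, pt (φ : A →ₐ[k] B) = f := by
  obtain ⟨φ, h⟩ := exists_bialgHom_of_isMonHom k (A := A) (B := B) f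
  exact ⟨φ, by rw [pt_eq, h]⟩

theorem pt_ext {A B : Type u} [CommRing A] [Bialgebra k A] [CommRing B] [Bialgebra k B] {f g : A →ₐc[k] B}
    (h : pt (f : A →ₐ[k] B) = pt (g : A →ₐ[k] B)) : f = g := by
  apply BialgHom.coe_toAlgHom_injective
  exact pt_injective h

theorem pt_bcomp {A B C : Type u} [CommRing A] [Bialgebra k A] [CommRing B] [Bialgebra k B] [CommRing C]
    [Bialgebra k C] (f : A →ₐc[k] B) (g : B →ₐc[k] C) :
    pt ((g.comp f : A →ₐc[k] C) : A →ₐ[k] C) = pt (g : B →ₐ[k] C) ≫ pt (f : A →ₐ[k] B) :=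
  pt_comp (f : A →ₐ[k] B) (g : B →ₐ[k] C)

theorem pt_id_pow {A : Type u} [CommRing A] [HopfAlgebra k A] [Coalgebra.IsCocomm k A] (n : ℕ) :
    pt (((WithConv.toConv (BialgHom.id k A)) ^ n).ofConv : A →ₐ[k] A) = (𝟙 (sp k A)) ^ n := by
  rw [pt_eq]
  exact K852.Dict.specMap_id_pow n

/-- monomorphism property of kernels -/
theorem mono_of_isKernel {S : Scheme.{u}} {N G H : Over S} [GrpObj H] {i : N ⟶ G} {w : G ⟶ H}
    (h : AlgGrp.IsKernel i w) : Mono i :=
  ⟨fun _ _ e ↦ h.hom_ext e (toUnit_unique _ _)⟩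

/-- factorisation through a kernel, in terms of Hopf algebras -/
theorem fac {G H : Over (Spec (CommRingCat.of k))} [GrpObj G] [GrpObj H] {w : G ⟶ H}
    {B' : Type u} [CommRing B'] [HopfAlgebra k B'] (j' : sp k B' ⟶ G) (hj : IsMonHom j')
    (hj' : AlgGrp.IsKernel j' w) {B : Type u} [CommRing B] [HopfAlgebra k B] (g : sp k B ⟶ G) (hg : IsMonHom g)
    (hw : g ≫ w = 1) : ∃ φ : B' →ₐc[k] B, pt (φ : B' →ₐ[k] B) ≫ j' = g := by
  have hm := mono_of_isKernel hj'
  obtain ⟨y, hy, -⟩ := ((Groth.Agent.Sga7.H760.KerBc.isKernel_iff j' w).1 hj').2 _ g hw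
  have h1 : IsMonHom (y ≫ j') := by rw [hy]; exact hg
  have h2 : IsMonHom y := Groth.Agent.Sga3C.SubGrp.isMonHom_of_comp_mono y j'
  obtain ⟨φ, hφ⟩ := exists_bialg y h2
  exact ⟨φ, by rw [hφ, hy]⟩

/-- the kernel of a finite endomorphism, as the spectrum of a Hopf algebra -/
theorem exists_ker {G H : Over (Spec (CommRingCat.of k))} [GrpObj G] [GrpObj H] (w : G ⟶ H) [IsMonHom w]
    (hw : IsAffineHom w.left) : ∃ (B : Type u) (_ : CommRing B) (_ : HopfAlgebra k B) (j : sp k B ⟶ G),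
      IsMonHom j ∧ AlgGrp.IsKernel j w := by
  obtain ⟨i1, i2⟩ := Groth.Agent.Sga3B.KerGrp.exists_grpObj w
  have h1 : IsAffineHom (Groth.Agent.Sga3B.KerGrp.kerObj w).hom :=
    MorphismProperty.pullback_snd (P := @IsAffineHom) w.left _ hw
  have h2 : IsAffine (Groth.Agent.Sga3B.KerGrp.kerObj w).left :=
    isAffine_of_isAffineHom (Groth.Agent.Sga3B.KerGrp.kerObj w).hom
  obtain ⟨B, iB, jB, e, he⟩ := exists_hopf k (Groth.Agent.Sga3B.KerGrp.kerObj w)
  have h3 : IsMonHom e.inv := inferInstance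
  have h4 : IsMonHom (e.inv ≫ Groth.Agent.Sga3B.KerGrp.kerι w) := inferInstance
  have h5 := Groth.Agent.Sga3B.KerGrp.isPullback_ker w
  refine ⟨B, iB, jB, e.inv ≫ Groth.Agent.Sga3B.KerGrp.kerι w, h4, ?_⟩
  exact IsPullback.of_iso h5 e (Iso.refl _) (Iso.refl _) (Iso.refl _) (by simp) (toUnit_unique _ _) (by simp)
    (by simp)

end gen

section core

variable (K : Type u) [Field K] (A : Over (Spec (CommRingCat.of K))) [GrpObj A]
    [IsProper A.hom] [GeometricallyIntegral A.hom] (p : ℕ) (hp : 1 ≤ p)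
    (B : ℕ → Type u) [∀ n, CommRing (B n)] [∀ n, HopfAlgebra K (B n)] [∀ n, Coalgebra.IsCocomm K (B n)]
    [∀ n, FiniteDimensional K (B n)]
    (j : ∀ n, sp K (B n) ⟶ A) (hj : ∀ n, IsMonHom (j n)) (hk : ∀ n, AlgGrp.IsKernel (j n) ((𝟙 A) ^ (p ^ n)))
    (res : ∀ n, B (n + 1) →ₐc[K] B n)
    (hres : ∀ n, pt (res n : B (n + 1) →ₐ[K] B n) ≫ j (n + 1) = j n)
    (inf : ∀ n, B n →ₐc[K] B (n + 1))
    (hinf : ∀ n, pt (inf n : B n →ₐ[K] B (n + 1)) ≫ j n = (j (n + 1)) ^ p)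

include hp hj hk hres hinf in
theorem core : ∃ (N : ℕ) (u : ∀ n, D K (B n) →ₐc[K] B n) (v : ∀ n, B n →ₐc[K] D K (B n)), 1 ≤ N ∧
    (∀ n, (res n).comp (u (n + 1)) = (u n).comp (transpose K (inf n))) ∧
    (∀ n, (inf n).comp (u n) = (u (n + 1)).comp (transpose K (res n))) ∧
    (∀ n, (transpose K (inf n)).comp (v (n + 1)) = (v n).comp (res n)) ∧
    (∀ n, (transpose K (res n)).comp (v n) = (v (n + 1)).comp (inf n)) ∧
    (∀ n, (u n).comp (v n) = ((WithConv.toConv (BialgHom.id K (B n))) ^ N).ofConv) ∧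
    (∀ n, (v n).comp (u n) = ((WithConv.toConv (BialgHom.id K (D K (B n)))) ^ N).ofConv) := by
  have sA : Smooth A.hom := Groth.Agent.Sga7.H301.Glue.smooth_abVar A
  have cA : GeometricallyConnected A.hom := K732.Isog.geomConn_of_geomInt A.hom
  obtain ⟨At, i1, φ, q1, hD, q2, q3, q4, lm, ps, N, hN, hlm, hps, h1, h2⟩ := K497.PolLam.exists_quasi A
  have cmA : IsCommMonObj A := isCommMonObj_of_isProper_of_geometricallyIntegral A
  have gAt := K732.AV.geomInt At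
  have hm : ∀ m : ℕ, IsMonHom ((𝟙 A : A ⟶ A) ^ m) := Groth.Agent.Grpsch.MulFinFlat.isMonHom_id_pow K A
  have hmt : ∀ m : ℕ, IsMonHom ((𝟙 At : At ⟶ At) ^ m) := Groth.Agent.Grpsch.MulFinFlat.isMonHom_id_pow K At
  have hpn : ∀ n, 1 ≤ p ^ n := fun n ↦ Nat.one_le_pow _ _ hp
  have hs : ∀ n, Surjective ((𝟙 A : A ⟶ A) ^ (p ^ n)).left := fun n ↦
    (Groth.Agent.Grpsch.MulFinFlat.isFinite_flat_surjective K A _ (hpn n)).2.2
  have hft : ∀ n, IsAffineHom ((𝟙 At : At ⟶ At) ^ (p ^ n)).left := fun n ↦ by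
    have := (Groth.Agent.Grpsch.MulFinFlat.isFinite_flat_surjective K At _ (hpn n)).1
    infer_instance
  have htr : ∀ m : ℕ, AbDual.IsTranspose ((𝟙 A : A ⟶ A) ^ m) φ φ ((𝟙 At : At ⟶ At) ^ m) :=
    K732.Isog.isTranspose_pow hD
  -- the Hopf algebras of the torsion of the dual
  have hex : ∀ n, ∃ (B' : Type u) (_ : CommRing B') (_ : HopfAlgebra K B') (j' : sp K B' ⟶ At),
      IsMonHom j' ∧ AlgGrp.IsKernel j' ((𝟙 At : At ⟶ At) ^ (p ^ n)) := fun n ↦ by
    have := hmt (p ^ n)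
    exact exists_ker _ (hft n)
  choose B' iB' hB' j' hj' hk' using hex
  -- powers
  have e1 : ∀ n, ((𝟙 A : A ⟶ A) ^ (p ^ (n + 1))) = ((𝟙 A : A ⟶ A) ^ (p ^ n)) ≫ ((𝟙 A : A ⟶ A) ^ p) := fun n ↦ by
    rw [MonObj.comp_pow, Category.comp_id, pow_succ p n, pow_mul]
  have e2 : ∀ n, ((𝟙 A : A ⟶ A) ^ (p ^ (n + 1))) = ((𝟙 A : A ⟶ A) ^ p) ≫ ((𝟙 A : A ⟶ A) ^ (p ^ n)) := fun n ↦ by
    rw [MonObj.comp_pow, Category.comp_id, pow_succ' p n, pow_mul]
  have jw : ∀ n, j n ≫ ((𝟙 A : A ⟶ A) ^ (p ^ n)) = 1 := fun n ↦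
    ((Groth.Agent.Sga7.H760.KerBc.isKernel_iff _ _).1 (hk n)).1
  have jw' : ∀ n, j' n ≫ ((𝟙 At : At ⟶ At) ^ (p ^ n)) = 1 := fun n ↦
    ((Groth.Agent.Sga7.H760.KerBc.isKernel_iff _ _).1 (hk' n)).1
  have jpw : ∀ n, j n ^ (p ^ n) = 1 := fun n ↦ by
    rw [← jw n, MonObj.comp_pow, Category.comp_id]
  have jpw' : ∀ n, j' n ^ (p ^ n) = 1 := fun n ↦ by
    rw [← jw' n, MonObj.comp_pow, Category.comp_id]
  have mo : ∀ n, Mono (j n) := fun n ↦ mono_of_isKernel (hk n)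
  have mo' : ∀ n, Mono (j' n) := fun n ↦ mono_of_isKernel (hk' n)
  -- transition maps of the dual system
  have hres' : ∀ n, ∃ r : B' (n + 1) →ₐc[K] B' n, pt (r : B' (n + 1) →ₐ[K] B' n) ≫ j' (n + 1) = j' n :=
    fun n ↦ fac (j' (n + 1)) (hj' _) (hk' _) (j' n) (hj' n) (by
      rw [MonObj.comp_pow, Category.comp_id, pow_succ p n, pow_mul, jpw', one_pow])
  have hinf' : ∀ n, ∃ r : B' n →ₐc[K] B' (n + 1), pt (r : B' n →ₐ[K] B' (n + 1)) ≫ j' n = (j' (n + 1)) ^ p :=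
    fun n ↦ fac (j' n) (hj' _) (hk' _) ((j' (n + 1)) ^ p) (by
      have e : (j' (n + 1)) ^ p = j' (n + 1) ≫ ((𝟙 At : At ⟶ At) ^ p) := by rw [MonObj.comp_pow, Category.comp_id]
      have := hj' (n + 1)
      have := hmt p
      rw [e]
      infer_instance) (by
      rw [MonObj.comp_pow, Category.comp_id, ← pow_mul, ← pow_succ' p n, jpw'])
  choose res' hres' using hres'
  choose inf' hinf' using hinf'
  -- the two homomorphisms
  have hl : ∀ n, ∃ r : B' n →ₐc[K] B n, pt (r : B' n →ₐ[K] B n) ≫ j' n = j n ≫ lm :=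
    fun n ↦ fac (j' n) (hj' _) (hk' _) (j n ≫ lm) (by have := hj n; infer_instance) (by
      rw [MonObj.comp_pow, Category.comp_id, ← MonObj.pow_comp, jpw, MonObj.one_comp])
  have hq : ∀ n, ∃ r : B n →ₐc[K] B' n, pt (r : B n →ₐ[K] B' n) ≫ j n = j' n ≫ ps :=
    fun n ↦ fac (j n) (hj _) (hk _) (j' n ≫ ps) (by have := hj' n; infer_instance) (by
      rw [MonObj.comp_pow, Category.comp_id, ← MonObj.pow_comp, jpw', MonObj.one_comp])
  choose lmd hlmd using hl
  choose psi hpsi using hq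
  -- the isomorphisms
  have he : ∀ n, ∃ e : D K (B n) ≃ₐc[K] B' n,
      K732.KerDual.Rel φ ((𝟙 A) ^ (p ^ n)) (j n) (j' n) (B' n) (AlgHom.id K (B' n))
        ((e : D K (B n) →ₐc[K] B' n) : D K (B n) →ₐ[K] B' n) := fun n ↦ by
    have := hm (p ^ n)
    have := hmt (p ^ n)
    have := hs n
    have := hj n
    have := hj' n
    exact K497.PolKC.exists_equiv hD hD ((𝟙 A) ^ (p ^ n)) (B n) (j n) (hk n) ((𝟙 At) ^ (p ^ n)) (htr _) (B' n) (j' n)
      (hk' n)
  choose e he using he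
  have c1 : ∀ n, (inf' n).comp (e n : D K (B n) →ₐc[K] B' n) =
      (e (n + 1) : D K (B (n + 1)) →ₐc[K] B' (n + 1)).comp (transpose K (res n)) := fun n ↦ by
    have := hm (p ^ n)
    have := hm (p ^ (n + 1))
    have := hm p
    have := hmt (p ^ n)
    have := hmt (p ^ (n + 1))
    have := hmt p
    have := hs n
    have := hs (n + 1)
    have := hj n
    have := hj (n + 1)
    have := hj' n
    have := hj' (n + 1)
    exact K497.PolKC.compat2 hD hD hD ((𝟙 A) ^ (p ^ n)) ((𝟙 A) ^ p) ((𝟙 A) ^ (p ^ (n + 1))) (e1 n) (B n) (j n) (hk n)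
      (B (n + 1)) (j (n + 1)) (hk (n + 1)) (res n) (hres n) ((𝟙 At) ^ (p ^ n)) (htr _) ((𝟙 At) ^ p) (htr _)
      ((𝟙 At) ^ (p ^ (n + 1))) (htr _) (B' n) (j' n) (hk' n) (B' (n + 1)) (j' (n + 1)) (hk' (n + 1)) (inf' n)
      (by rw [hinf', MonObj.comp_pow, Category.comp_id]) (e n) (e (n + 1)) (he n) (he (n + 1))
  have c2 : ∀ n, (res' n).comp (e (n + 1) : D K (B (n + 1)) →ₐc[K] B' (n + 1)) =
      (e n : D K (B n) →ₐc[K] B' n).comp (transpose K (inf n)) := fun n ↦ by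
    have := hm (p ^ n)
    have := hm (p ^ (n + 1))
    have := hm p
    have := hmt (p ^ n)
    have := hmt (p ^ (n + 1))
    have := hmt p
    have := hs n
    have := hs (n + 1)
    have := hj n
    have := hj (n + 1)
    have := hj' n
    have := hj' (n + 1)
    exact K497.PolKC.compat hD hD ((𝟙 A) ^ p) ((𝟙 A) ^ (p ^ n)) ((𝟙 A) ^ (p ^ (n + 1))) (e2 n) (B n) (j n)
      (B (n + 1)) (j (n + 1)) (hk (n + 1)) (inf n) (by rw [hinf, MonObj.comp_pow, Category.comp_id])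
      ((𝟙 At) ^ (p ^ (n + 1))) (htr _) (B' n) (j' n) (B' (n + 1)) (j' (n + 1)) (hk' (n + 1)) (res' n) (hres' n)
      (e n) (e (n + 1)) (he n) (he (n + 1))
  -- squares
  have s1 : ∀ n, (res n).comp (lmd (n + 1)) = (lmd n).comp (res' n) := fun n ↦ by
    apply pt_ext
    rw [pt_bcomp, pt_bcomp, ← cancel_mono (j' (n + 1)), Category.assoc, Category.assoc, hlmd, hres', hlmd,
      reassoc_of% (hres n)]
  have s2 : ∀ n, (inf n).comp (lmd n) = (lmd (n + 1)).comp (inf' n) := fun n ↦ by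
    apply pt_ext
    rw [pt_bcomp, pt_bcomp, ← cancel_mono (j' n), Category.assoc, Category.assoc, hlmd, hinf', MonObj.comp_pow, hlmd,
      reassoc_of% (hinf n), MonObj.pow_comp]
  have s3 : ∀ n, (psi n).comp (res n) = (res' n).comp (psi (n + 1)) := fun n ↦ by
    apply pt_ext
    rw [pt_bcomp, pt_bcomp, ← cancel_mono (j (n + 1)), Category.assoc, Category.assoc, hpsi, hres, hpsi,
      reassoc_of% (hres' n)]
  have s4 : ∀ n, (psi (n + 1)).comp (inf n) = (inf' n).comp (psi n) := fun n ↦ by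
    apply pt_ext
    rw [pt_bcomp, pt_bcomp, ← cancel_mono (j n), Category.assoc, Category.assoc, hpsi, hinf, MonObj.comp_pow, hpsi,
      reassoc_of% (hinf' n), MonObj.pow_comp]
  -- composites
  have t1 : ∀ n, pt (lmd n : B' n →ₐ[K] B n) ≫ pt (psi n : B n →ₐ[K] B' n) = (𝟙 (sp K (B n))) ^ N := fun n ↦ by
    have := hj n
    rw [← cancel_mono (j n), Category.assoc, hpsi, reassoc_of% (hlmd n), h1, MonObj.comp_pow, Category.comp_id,
      MonObj.pow_comp, Category.id_comp]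
  have t2 : ∀ n, pt (psi n : B n →ₐ[K] B' n) ≫ pt (lmd n : B' n →ₐ[K] B n) = (𝟙 (sp K (B' n))) ^ N := fun n ↦ by
    have := hj' n
    rw [← cancel_mono (j' n), Category.assoc, hlmd, reassoc_of% (hpsi n), h2, MonObj.comp_pow, Category.comp_id,
      MonObj.pow_comp, Category.id_comp]
  have a1 : ∀ n, ((e n).symm : B' n →ₐc[K] D K (B n)).comp (e n : D K (B n) →ₐc[K] B' n) =
      BialgHom.id K (D K (B n)) := fun n ↦ by
    apply BialgHom.ext
    intro x
    exact (e n).symm_apply_apply x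
  have a2 : ∀ n, (e n : D K (B n) →ₐc[K] B' n).comp ((e n).symm : B' n →ₐc[K] D K (B n)) =
      BialgHom.id K (B' n) := fun n ↦ by
    apply BialgHom.ext
    intro x
    exact (e n).apply_symm_apply x
  refine ⟨N, fun n ↦ (lmd n).comp (e n : D K (B n) →ₐc[K] B' n),
    fun n ↦ ((e n).symm : B' n →ₐc[K] D K (B n)).comp (psi n), hN, fun n ↦ ?_, fun n ↦ ?_, fun n ↦ ?_, fun n ↦ ?_,
    fun n ↦ ?_, fun n ↦ ?_⟩
  · rw [← BialgHom.comp_assoc, s1, BialgHom.comp_assoc, c2, BialgHom.comp_assoc]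
  · rw [← BialgHom.comp_assoc, s2, BialgHom.comp_assoc, c1, BialgHom.comp_assoc]
  · have h3 : transpose K (inf n) = ((e n).symm : B' n →ₐc[K] D K (B n)).comp
        ((res' n).comp (e (n + 1) : D K (B (n + 1)) →ₐc[K] B' (n + 1))) := by
      rw [c2, ← BialgHom.comp_assoc, a1, BialgHom.id_comp]
    rw [h3, BialgHom.comp_assoc, BialgHom.comp_assoc, ← BialgHom.comp_assoc (e (n + 1) : D K (B (n + 1)) →ₐc[K] B' (n + 1)),
      a2, BialgHom.id_comp, ← s3, BialgHom.comp_assoc]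
  · have h3 : transpose K (res n) = ((e (n + 1)).symm : B' (n + 1) →ₐc[K] D K (B (n + 1))).comp
        ((inf' n).comp (e n : D K (B n) →ₐc[K] B' n)) := by
      rw [c1, ← BialgHom.comp_assoc, a1, BialgHom.id_comp]
    rw [h3, BialgHom.comp_assoc, BialgHom.comp_assoc, ← BialgHom.comp_assoc (e n : D K (B n) →ₐc[K] B' n),
      a2, BialgHom.id_comp, ← s4, BialgHom.comp_assoc]
  · apply pt_ext
    rw [pt_id_pow, ← t1 n, ← BialgHom.comp_assoc, BialgHom.comp_assoc (lmd n), a2, BialgHom.comp_id, pt_bcomp]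
  · apply pt_ext
    have := isMonHom_pt (e n : D K (B n) →ₐc[K] B' n)
    rw [pt_id_pow, pt_bcomp, pt_bcomp, pt_bcomp, Category.assoc, reassoc_of% (t2 n), MonObj.pow_comp, Category.id_comp,
      MonObj.comp_pow, ← pt_bcomp, a1]
    congr 1
    exact pt_id

end core

/-- **Node POL**: the polarisation on the Tate projective system of an abelian variety, on the level of the
coordinate rings `B n` of `A[p^n]`. -/
theorem main (K : Type u) [Field K] (A : Over (Spec (CommRingCat.of K))) [GrpObj A] [IsCommMonObj A]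
    [IsProper A.hom] [GeometricallyIntegral A.hom] (p : ℕ) [Fact p.Prime]
    (P : ℕ → Over (Spec (CommRingCat.of K))) [∀ ν, GrpObj (P ν)] (i : ∀ ν, P ν ⟶ A) (t : ∀ ν, P (ν + 1) ⟶ P ν)
    (hP : BTGrp.IsTatePro A p P i t)
    (B : ℕ → Type u) [∀ n, CommRing (B n)] [∀ n, HopfAlgebra K (B n)] [∀ n, Coalgebra.IsCocomm K (B n)]
    [∀ n, FiniteDimensional K (B n)] (e : ∀ n, P n ≅ sp K (B n)) (he : ∀ n, IsMonHom (e n).hom)
    (res : ∀ n, B (n + 1) →ₐc[K] B n)
    (hres : ∀ n, pt (res n : B (n + 1) →ₐ[K] B n) ≫ (e (n + 1)).inv ≫ i (n + 1) = (e n).inv ≫ i n)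
    (inf : ∀ n, B n →ₐc[K] B (n + 1))
    (hinf : ∀ n, pt (inf n : B n →ₐ[K] B (n + 1)) ≫ (e n).inv = (e (n + 1)).inv ≫ t n) :
    ∃ (N : ℕ) (u : ∀ n, D K (B n) →ₐc[K] B n) (v : ∀ n, B n →ₐc[K] D K (B n)), 1 ≤ N ∧
      (∀ n, (res n).comp (u (n + 1)) = (u n).comp (transpose K (inf n))) ∧
      (∀ n, (inf n).comp (u n) = (u (n + 1)).comp (transpose K (res n))) ∧
      (∀ n, (transpose K (inf n)).comp (v (n + 1)) = (v n).comp (res n)) ∧
      (∀ n, (transpose K (res n)).comp (v n) = (v (n + 1)).comp (inf n)) ∧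
      (∀ n, (u n).comp (v n) = ((WithConv.toConv (BialgHom.id K (B n))) ^ N).ofConv) ∧
      (∀ n, (v n).comp (u n) = ((WithConv.toConv (BialgHom.id K (D K (B n)))) ^ N).ofConv) := by
  have h1 : ∀ n, IsMonHom (e n).inv := fun n ↦ by
    have := he n
    infer_instance
  refine core K A p (Fact.out : p.Prime).one_lt.le B (fun n ↦ (e n).inv ≫ i n) (fun n ↦ ?_) (fun n ↦ ?_) res
    (fun n ↦ hres n) inf (fun n ↦ ?_)
  · have := (hP.1 n).1
    infer_instance
  · exact IsPullback.of_iso (hP.1 n).2 (e n) (Iso.refl _) (Iso.refl _) (Iso.refl _) (by simp) (toUnit_unique _ _)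
      (by simp) (by simp)
  · rw [reassoc_of% (hinf n), (hP.2 n).2, MonObj.comp_pow]

end K497.Pol
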