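import Groth.Agent.AbDual.K732.KerDual

/-!
# Naturality of the correspondence `Ker (f^t) = D(Ker f)` in the isogeny `f`

`K732.KerDual` proves that the kernel of the transpose of an isogeny `f` is the Cartier dual of the kernel of `f`,
through the relation `Rel`.  Here:

* `KC.precomp` : the correspondence for `f` induces the one for `g ≫ f`;
* `exists_equiv` : the isomorphism `D (O(Ker f)) ≃ₐc O(Ker f^t)` which induces `Rel` on all points;
* `compat` : these isomorphisms for `f` and `g ≫ f` are compatible.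
-/

set_option autoImplicit false
set_option linter.unusedSectionVars false
universe u

open CategoryTheory CategoryTheory.Limits MonoidalCategory CartesianMonoidalCategory MonObj GrpObj
  AlgebraicGeometry TensorProduct

namespace K497.PolKC

open Groth.Agent.Grpsch.PicGrp Groth.Agent.Fga.RigGrp K732.Cov K732.PicZero K732.RigSheaf K732.Dual
open K732.CubeSec K732.Transp K732.Prim K732.Coc K732.CocX K732.KerChar K732.KerCor K732.CharAlg
open K732.KerDual CoactBr Groth.Agent.S15830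

section general

variable {S : Scheme.{u}} {X X' Y N N' : Over S} [GrpObj X] [GrpObj X'] [GrpObj Y] [GrpObj N] [GrpObj N']

theorem precomp (g : X' ⟶ X) [IsMonHom g] (f : X ⟶ Y) [IsMonHom f] (i : N ⟶ X) [IsMonHom i] (i' : N' ⟶ X')
    [IsMonHom i'] (t : N' ⟶ N) (ht : t ≫ i = i' ≫ g) {T : Over S} {c : Pic (PicF.XT Y.hom T)}
    {χ : Γ((N ⊗ T).left, ⊤)ˣ} (h : KC f i c χ) : KC (g ≫ f) i' c (uv χ (t ▷ T)) := by
  obtain ⟨v, h1, h2⟩ := h
  have w : AbDual.bcMap g T ≫ AbDual.bcMap f T = AbDual.bcMap (g ≫ f) T ≫ 𝟙 _ := by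
    rw [bcMap_comp, Category.comp_id]
  have w' : (pullback.fst (AbDual.bcMap (g ≫ f) T) (AbDual.bcMap (g ≫ f) T) ≫ AbDual.bcMap g T) ≫
      AbDual.bcMap f T = (pullback.snd (AbDual.bcMap (g ≫ f) T) (AbDual.bcMap (g ≫ f) T) ≫
        AbDual.bcMap g T) ≫ AbDual.bcMap f T := by
    rw [Category.assoc, Category.assoc, w, Category.comp_id, pullback.condition]
  have h3 := h1.pull w w'
  rw [pull_id] at h3
  refine ⟨_, h3, ?_⟩
  intro Z a b t₀ e n hn
  have k1 := vat_pull v (pullback.lift (lift a t₀).left (lift b t₀).left (w_of_eq (g ≫ f) T t₀ e))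
    (pullback.fst (AbDual.bcMap (g ≫ f) T) (AbDual.bcMap (g ≫ f) T) ≫ AbDual.bcMap g T)
    (pullback.snd (AbDual.bcMap (g ≫ f) T) (AbDual.bcMap (g ≫ f) T) ≫ AbDual.bcMap g T) w'
    (a' := (lift (a ≫ g) t₀).left) (b' := (lift (b ≫ g) t₀).left)
    (by rw [pullback.lift_fst_assoc, lift_bcMap]) (by rw [pullback.lift_snd_assoc, lift_bcMap])
    (w_of_eq f T t₀ (by rw [Category.assoc, Category.assoc, e]))
  have k2 := h2 Z (a ≫ g) (b ≫ g) t₀ (by rw [Category.assoc, Category.assoc, e]) (n ≫ t) (by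
    rw [Category.assoc, ht, ← Category.assoc, hn, MonObj.mul_comp, GrpObj.inv_comp])
  rw [vp, vat]
  rw [k1]
  refine k2.trans ?_
  rw [← uv_comp]
  congr 1
  ext1 <;> simp

/-- The correspondence for `f ≫ g` induces the one for `f`. -/
theorem postcomp {Z : Over S} [GrpObj Z] (f : X ⟶ Y) [IsMonHom f] (g : Y ⟶ Z) [IsMonHom g] (i : N ⟶ X) [IsMonHom i]
    (i' : N' ⟶ X) [IsMonHom i'] (s : N ⟶ N') (hs : s ≫ i' = i) {T : Over S} {c : Pic (PicF.XT Z.hom T)}
    {χ : Γ((N' ⊗ T).left, ⊤)ˣ} (h : KC (f ≫ g) i' c χ) : KC f i (pull (AbDual.bcMap g T) c) (uv χ (s ▷ T)) := by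
  obtain ⟨v, h1, h2⟩ := h
  have w : 𝟙 _ ≫ AbDual.bcMap (f ≫ g) T = AbDual.bcMap f T ≫ AbDual.bcMap g T := by
    rw [bcMap_comp, Category.id_comp]
  have w' : (pullback.fst (AbDual.bcMap f T) (AbDual.bcMap f T) ≫ 𝟙 _) ≫ AbDual.bcMap (f ≫ g) T =
      (pullback.snd (AbDual.bcMap f T) (AbDual.bcMap f T) ≫ 𝟙 _) ≫ AbDual.bcMap (f ≫ g) T := by
    rw [Category.assoc, Category.assoc, w, pullback.condition_assoc]
  refine ⟨_, h1.pull w w', ?_⟩
  intro Z' a b t₀ e n hn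
  have e' : a ≫ f ≫ g = b ≫ f ≫ g := by rw [reassoc_of% e]
  have k1 := vat_pull v (pullback.lift (lift a t₀).left (lift b t₀).left (w_of_eq f T t₀ e))
    (pullback.fst (AbDual.bcMap f T) (AbDual.bcMap f T) ≫ 𝟙 _)
    (pullback.snd (AbDual.bcMap f T) (AbDual.bcMap f T) ≫ 𝟙 _) w'
    (a' := (lift a t₀).left) (b' := (lift b t₀).left)
    (by rw [Category.comp_id, pullback.lift_fst]) (by rw [Category.comp_id, pullback.lift_snd])
    (w_of_eq (f ≫ g) T t₀ e')
  have k2 := h2 Z' a b t₀ e' (n ≫ s) (by rw [Category.assoc, hs, hn])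
  rw [vp, vat]
  rw [k1]
  refine k2.trans ?_
  rw [← uv_comp]
  congr 1
  ext1 <;> simp

end general

section yon

variable {k : Type u} [Field k] {B D : Type u} [CommRing B] [Bialgebra k B] [CommRing D]
  [Bialgebra k D]

/-- Yoneda for commutative bialgebras, with the property of the isomorphism. -/
theorem exists_bialgEquiv
    (rel : ∀ (R : Type u) [CommRing R] [Algebra k R], (B →ₐ[k] R) → (D →ₐ[k] R) → Prop)
    (htot : ∀ (R : Type u) [CommRing R] [Algebra k R] (b : B →ₐ[k] R), ∃ β, rel R b β)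
    (htot' : ∀ (R : Type u) [CommRing R] [Algebra k R] (β : D →ₐ[k] R), ∃ b, rel R b β)
    (huniq : ∀ (R : Type u) [CommRing R] [Algebra k R] (b : B →ₐ[k] R) (β β' : D →ₐ[k] R),
      rel R b β → rel R b β' → β = β')
    (huniq' : ∀ (R : Type u) [CommRing R] [Algebra k R] (b b' : B →ₐ[k] R) (β : D →ₐ[k] R),
      rel R b β → rel R b' β → b = b')
    (hnat : ∀ (R R' : Type u) [CommRing R] [Algebra k R] [CommRing R'] [Algebra k R']
      (g : R →ₐ[k] R') (b : B →ₐ[k] R) (β : D →ₐ[k] R), rel R b β →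
        rel R' (g.comp b) (g.comp β))
    (hmul : ∀ (R : Type u) [CommRing R] [Algebra k R] (b b' : B →ₐ[k] R) (β β' : D →ₐ[k] R),
      rel R b β → rel R b' β' → rel R (cv b b') (cv β β'))
    (hone : rel k (Bialgebra.counitAlgHom k B) (Bialgebra.counitAlgHom k D)) :
    ∃ e : D ≃ₐc[k] B, rel B (AlgHom.id k B) ((e : D →ₐc[k] B) : D →ₐ[k] B) := by
  obtain ⟨θ, hθ⟩ := htot B (AlgHom.id k B)
  have key : ∀ (R : Type u) [CommRing R] [Algebra k R] (b : B →ₐ[k] R), rel R b (b.comp θ) := by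
    intro R _ _ b
    have h := hnat B R b _ _ hθ
    rwa [AlgHom.comp_id] at h
  obtain ⟨b, hb⟩ := htot' D (AlgHom.id k D)
  have h1 : b.comp θ = AlgHom.id k D := huniq D b _ _ (key D b) hb
  have h2 : θ.comp b = AlgHom.id k B := by
    refine huniq' B _ _ θ ?_ hθ
    have h3 := key B (θ.comp b)
    rwa [AlgHom.comp_assoc, h1, AlgHom.comp_id] at h3
  have h3 : (Bialgebra.counitAlgHom k B).comp θ = Bialgebra.counitAlgHom k D :=
    huniq k _ _ _ (key k _) hone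
  have h4 : (Bialgebra.comulAlgHom k B).comp θ =
      (Algebra.TensorProduct.map θ θ).comp (Bialgebra.comulAlgHom k D) := by
    have e1 := hmul (B ⊗[k] B) _ _ _ _ (key (B ⊗[k] B) Algebra.TensorProduct.includeLeft)
      (key (B ⊗[k] B) Algebra.TensorProduct.includeRight)
    have e2 : cv (Algebra.TensorProduct.includeLeft : B →ₐ[k] B ⊗[k] B)
        (Algebra.TensorProduct.includeRight : B →ₐ[k] B ⊗[k] B) = Bialgebra.comulAlgHom k B := by
      have : Algebra.TensorProduct.lift (Algebra.TensorProduct.includeLeft : B →ₐ[k] B ⊗[k] B)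
        (Algebra.TensorProduct.includeRight : B →ₐ[k] B ⊗[k] B) (fun _ _ ↦ .all _ _) =
          AlgHom.id k (B ⊗[k] B) := by
        ext <;> simp
      rw [cv, this, AlgHom.id_comp]
    have e3 : Algebra.TensorProduct.lift
        ((Algebra.TensorProduct.includeLeft : B →ₐ[k] B ⊗[k] B).comp θ)
        ((Algebra.TensorProduct.includeRight : B →ₐ[k] B ⊗[k] B).comp θ) (fun _ _ ↦ .all _ _) =
          Algebra.TensorProduct.map θ θ := by
      ext <;> simp
    rw [e2] at e1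
    have e4 := huniq _ _ _ _ (key _ (Bialgebra.comulAlgHom k B)) e1
    rw [e4, cv, e3]
  have hbij : Function.Bijective θ := by
    refine ⟨fun x y hxy ↦ ?_, fun x ↦ ⟨b x, ?_⟩⟩
    · have := congrArg b hxy
      have h5 : ∀ z, b (θ z) = z := fun z ↦ DFunLike.congr_fun h1 z
      rwa [h5, h5] at this
    · exact DFunLike.congr_fun h2 x
  let Θ : D →ₐc[k] B := BialgHom.ofAlgHom θ h3 (by
    rw [← h4])
  refine ⟨BialgEquiv.ofBijective Θ hbij, ?_⟩
  have h5 : (((BialgEquiv.ofBijective Θ hbij : D ≃ₐc[k] B) : D →ₐc[k] B) : D →ₐ[k] B) = θ := by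
    ext x
    rfl
  rw [h5]
  exact hθ

end yon

section field

variable {k : Type u} [Field k] {X Y Xt Yt : Over (Spec (CommRingCat.of k))}
  [GrpObj X] [GrpObj Y] [GrpObj Xt] [GrpObj Yt]
  [IsProper X.hom] [Smooth X.hom] [GeometricallyConnected X.hom]
  [IsProper Y.hom] [Smooth Y.hom] [GeometricallyConnected Y.hom]
  {φX : ∀ T : Over (Spec (CommRingCat.of k)), PicF.Cl (PicF.XT X.hom T) → (T ⟶ Xt)}
  {φY : ∀ T : Over (Spec (CommRingCat.of k)), PicF.Cl (PicF.XT Y.hom T) → (T ⟶ Yt)}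
  (hX : AbDual.IsDualAV Scheme.fppfPrecoverage X Xt φX)
  (hY : AbDual.IsDualAV Scheme.fppfPrecoverage Y Yt φY)
  (f : X ⟶ Y) [IsMonHom f] [Surjective f.left]
  (A : Type u) [CommRing A] [HopfAlgebra k A] [Coalgebra.IsCocomm k A] [FiniteDimensional k A]
  (i : sp k A ⟶ X) [IsMonHom i] (hA : AlgGrp.IsKernel i f)
  (ft : Yt ⟶ Xt) [IsMonHom ft] (hft : AbDual.IsTranspose f φX φY ft)
  (B : Type u) [CommRing B] [HopfAlgebra k B]
  (j : sp k B ⟶ Yt) [IsMonHom j] (hB : AlgGrp.IsKernel j ft)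

include hX hY hA hft hB in
/-- **The kernel of the transpose is the Cartier dual of the kernel**, with the property of the isomorphism. -/
theorem exists_equiv : ∃ e : CartDual.D k A ≃ₐc[k] B,
    Rel φY f i j B (AlgHom.id k B) ((e : CartDual.D k A →ₐc[k] B) : CartDual.D k A →ₐ[k] B) :=
  exists_bialgEquiv (k := k) (B := B) (D := CartDual.D k A)
    (fun R _ _ b β ↦ Rel φY f i j R b β)
    (fun R _ _ b ↦ exists_right hX hY f A i hA ft hft B j hB R b)
    (fun R _ _ β ↦ exists_left hX hY f A i hA ft hft B j hB R β)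
    (fun R _ _ b β β' ↦ rel_unique_right hX hY f A i hA ft hft B j hB R b β β')
    (fun R _ _ b b' β ↦ rel_unique_left hX hY f A i hA ft hft B j hB R b b' β)
    (fun R R' _ _ _ _ g b β ↦ rel_natural hX hY f A i hA ft hft B j hB R R' g b β)
    (fun R _ _ b b' β β' ↦ rel_mul hX hY f A i hA ft hft B j hB R b b' β β')
    (rel_one hX hY f A i hA ft hft B j hB)

end field

section compat

variable {k : Type u} [Field k]

/-- Characters of `Spec A` as characters of `Spec A'`. -/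
theorem gl_whiskerRight {A A' R : Type u} [CommRing A] [Algebra k A] [CommRing A'] [Algebra k A'] [CommRing R]
    [Algebra k R] (χ : Γ((sp k A ⊗ sp k R).left, ⊤)ˣ) (τ : A →ₐ[k] A') :
    gl (uv χ (pt τ ▷ sp k R)) = Algebra.TensorProduct.map (AlgHom.id k R) τ (gl χ) := by
  have h1 : io A' R ≫ (pt τ ▷ sp k R) = lift (pt ((Algebra.TensorProduct.includeRight : A' →ₐ[k] R ⊗[k] A').comp τ))
      (pt (Algebra.TensorProduct.includeLeft : R →ₐ[k] R ⊗[k] A')) := by
    rw [io, lift_whiskerRight, ← pt_comp]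
  have h2 : Algebra.TensorProduct.lift (Algebra.TensorProduct.includeLeft : R →ₐ[k] R ⊗[k] A')
      ((Algebra.TensorProduct.includeRight : A' →ₐ[k] R ⊗[k] A').comp τ) (fun _ _ ↦ .all _ _) =
      Algebra.TensorProduct.map (AlgHom.id k R) τ := by
    ext <;> simp
  rw [gl, ← uv_comp, h1, toK_uv_lift, h2]

theorem Φ_map_right {A A' R : Type u} [CommRing A] [HopfAlgebra k A] [FiniteDimensional k A] [CommRing A']
    [HopfAlgebra k A'] [FiniteDimensional k A'] [CommRing R] [Algebra k R] (τ : A →ₐc[k] A') (z : R ⊗[k] A)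
    (x : CartDual.D k A') :
    Φ k A' R (Algebra.TensorProduct.map (AlgHom.id k R) (τ : A →ₐ[k] A') z) x =
      Φ k A R z (CartDual.transpose k τ x) := by
  induction z using TensorProduct.induction_on with
  | zero => rw [map_zero, Φ_zero, Φ_zero]; rfl
  | add z z' h h' => rw [map_add, Φ_add, LinearMap.add_apply, h, h', Φ_add, LinearMap.add_apply]
  | tmul r a => rw [Algebra.TensorProduct.map_tmul, Φ_tmul, Φ_tmul]; rfl

variable {X X' Y Xt X't Yt : Over (Spec (CommRingCat.of k))}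
  [GrpObj X] [GrpObj X'] [GrpObj Y] [GrpObj Xt] [GrpObj X't] [GrpObj Yt]
  [IsProper X.hom] [Smooth X.hom] [GeometricallyConnected X.hom]
  [IsProper X'.hom] [Smooth X'.hom] [GeometricallyConnected X'.hom]
  [IsProper Y.hom] [Smooth Y.hom] [GeometricallyConnected Y.hom]
  {φX' : ∀ T : Over (Spec (CommRingCat.of k)), PicF.Cl (PicF.XT X'.hom T) → (T ⟶ X't)}
  {φY : ∀ T : Over (Spec (CommRingCat.of k)), PicF.Cl (PicF.XT Y.hom T) → (T ⟶ Yt)}
  (hX' : AbDual.IsDualAV Scheme.fppfPrecoverage X' X't φX')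
  (hY : AbDual.IsDualAV Scheme.fppfPrecoverage Y Yt φY)
  (g : X' ⟶ X) [IsMonHom g] (f : X ⟶ Y) [IsMonHom f] (F : X' ⟶ Y) [IsMonHom F] (hF : F = g ≫ f)
  [Surjective F.left]
  (A : Type u) [CommRing A] [HopfAlgebra k A] [Coalgebra.IsCocomm k A] [FiniteDimensional k A]
  (i : sp k A ⟶ X) [IsMonHom i]
  (A' : Type u) [CommRing A'] [HopfAlgebra k A'] [Coalgebra.IsCocomm k A'] [FiniteDimensional k A']
  (i' : sp k A' ⟶ X') [IsMonHom i'] (hA' : AlgGrp.IsKernel i' F)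
  (τ : A →ₐc[k] A') (hτ : pt (τ : A →ₐ[k] A') ≫ i = i' ≫ g)
  (Ft : Yt ⟶ X't) [IsMonHom Ft] (hFt : AbDual.IsTranspose F φX' φY Ft)
  (B : Type u) [CommRing B] [HopfAlgebra k B] (j : sp k B ⟶ Yt) [IsMonHom j]
  (B' : Type u) [CommRing B'] [HopfAlgebra k B'] (j' : sp k B' ⟶ Yt) [IsMonHom j'] (hB' : AlgGrp.IsKernel j' Ft)
  (ρ : B' →ₐc[k] B) (hρ : pt (ρ : B' →ₐ[k] B) ≫ j' = j)

include hF hτ hρ in
/-- The relation for `f` implies the relation for `g ≫ f`. -/
theorem rel_precomp {β : CartDual.D k A →ₐ[k] B} (h : Rel φY f i j B (AlgHom.id k B) β) :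
    Rel φY F i' j' B (ρ : B' →ₐ[k] B) (β.comp (CartDual.transpose k τ : CartDual.D k A' →ₐ[k] CartDual.D k A)) := by
  subst hF
  obtain ⟨c, χ, h1, h2, h3⟩ := h
  refine ⟨c, _, precomp g f i i' (pt (τ : A →ₐ[k] A')) hτ h1, ?_, fun x ↦ ?_⟩
  · rw [h2, hρ, pt_id, Category.id_comp]
  · rw [gl_whiskerRight, Φ_map_right, ← h3]
    rfl

include hX' hY hF hA' hτ hFt hB' hρ in
/-- The isomorphisms for `f` and `g ≫ f` are compatible. -/
theorem compat (e : CartDual.D k A ≃ₐc[k] B) (e' : CartDual.D k A' ≃ₐc[k] B')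
    (h : Rel φY f i j B (AlgHom.id k B) ((e : CartDual.D k A →ₐc[k] B) : CartDual.D k A →ₐ[k] B))
    (h' : Rel φY F i' j' B' (AlgHom.id k B') ((e' : CartDual.D k A' →ₐc[k] B') : CartDual.D k A' →ₐ[k] B')) :
    ρ.comp (e' : CartDual.D k A' →ₐc[k] B') = (e : CartDual.D k A →ₐc[k] B).comp (CartDual.transpose k τ) := by
  have h1 := rel_precomp g f F hF A i A' i' τ hτ B j B' j' ρ hρ h
  have h2 := rel_natural hX' hY F A' i' hA' Ft hFt B' j' hB' B' B (ρ : B' →ₐ[k] B) _ _ h'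
  rw [AlgHom.comp_id] at h2
  have h3 := rel_unique_right hX' hY F A' i' hA' Ft hFt B' j' hB' B _ _ _ h2 h1
  apply BialgHom.ext
  intro x
  exact DFunLike.congr_fun h3 x

end compat

section compat2

variable {k : Type u} [Field k]
variable {X Y Z Xt Yt Zt : Over (Spec (CommRingCat.of k))}
  [GrpObj X] [GrpObj Y] [GrpObj Z] [GrpObj Xt] [GrpObj Yt] [GrpObj Zt]
  [IsProper X.hom] [Smooth X.hom] [GeometricallyConnected X.hom]
  [IsProper Y.hom] [Smooth Y.hom] [GeometricallyConnected Y.hom]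
  [IsProper Z.hom] [Smooth Z.hom] [GeometricallyConnected Z.hom]
  {φX : ∀ T : Over (Spec (CommRingCat.of k)), PicF.Cl (PicF.XT X.hom T) → (T ⟶ Xt)}
  {φY : ∀ T : Over (Spec (CommRingCat.of k)), PicF.Cl (PicF.XT Y.hom T) → (T ⟶ Yt)}
  {φZ : ∀ T : Over (Spec (CommRingCat.of k)), PicF.Cl (PicF.XT Z.hom T) → (T ⟶ Zt)}
  (hX : AbDual.IsDualAV Scheme.fppfPrecoverage X Xt φX)
  (hY : AbDual.IsDualAV Scheme.fppfPrecoverage Y Yt φY)
  (hZ : AbDual.IsDualAV Scheme.fppfPrecoverage Z Zt φZ)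
  (f : X ⟶ Y) [IsMonHom f] (g : Y ⟶ Z) [IsMonHom g] (F : X ⟶ Z) [IsMonHom F] (hF : F = f ≫ g)
  [Surjective f.left] [Surjective F.left]
  (A : Type u) [CommRing A] [HopfAlgebra k A] [Coalgebra.IsCocomm k A] [FiniteDimensional k A]
  (i : sp k A ⟶ X) [IsMonHom i] (hA : AlgGrp.IsKernel i f)
  (A' : Type u) [CommRing A'] [HopfAlgebra k A'] [Coalgebra.IsCocomm k A'] [FiniteDimensional k A']
  (i' : sp k A' ⟶ X) [IsMonHom i'] (hA' : AlgGrp.IsKernel i' F)
  (ρ : A' →ₐc[k] A) (hρ : pt (ρ : A' →ₐ[k] A) ≫ i' = i)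
  (ft : Yt ⟶ Xt) [IsMonHom ft] (hft : AbDual.IsTranspose f φX φY ft)
  (gt : Zt ⟶ Yt) (hgt : AbDual.IsTranspose g φY φZ gt)
  (Ft : Zt ⟶ Xt) [IsMonHom Ft] (hFt : AbDual.IsTranspose F φX φZ Ft)
  (B : Type u) [CommRing B] [HopfAlgebra k B] (j : sp k B ⟶ Yt) [IsMonHom j] (hB : AlgGrp.IsKernel j ft)
  (B' : Type u) [CommRing B'] [HopfAlgebra k B'] (j' : sp k B' ⟶ Zt) [IsMonHom j'] (hB' : AlgGrp.IsKernel j' Ft)
  (τ : B →ₐc[k] B') (hτ : pt (τ : B →ₐ[k] B') ≫ j = j' ≫ gt)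

include hX hZ hF hA' hρ hgt hFt hB' hτ in
/-- The relation for `f ≫ g` implies the relation for `f`. -/
theorem rel_postcomp {β : CartDual.D k A' →ₐ[k] B'} (h : Rel φZ F i' j' B' (AlgHom.id k B') β) :
    Rel φY f i j B' (τ : B →ₐ[k] B') (β.comp (CartDual.transpose k ρ : CartDual.D k A →ₐ[k] CartDual.D k A')) := by
  obtain ⟨c, χ, h1, h2, h3⟩ := h
  have h4 := mem_pz hX hZ F A' i' hA' Ft hFt B' j' hB' h1.pull_eq_one
  subst hF
  refine ⟨pull (AbDual.bcMap g _) c, _, postcomp f g i i' (pt (ρ : A' →ₐ[k] A)) hρ h1, ?_, fun x ↦ ?_⟩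
  · rw [hgt.cm h4, h2, hτ, pt_id, Category.id_comp]
  · rw [gl_whiskerRight, Φ_map_right, ← h3]
    rfl

include hX hY hZ hF hA hA' hρ hft hgt hFt hB hB' hτ in
/-- The isomorphisms for `f` and `f ≫ g` are compatible. -/
theorem compat2 (e : CartDual.D k A ≃ₐc[k] B) (e' : CartDual.D k A' ≃ₐc[k] B')
    (h : Rel φY f i j B (AlgHom.id k B) ((e : CartDual.D k A →ₐc[k] B) : CartDual.D k A →ₐ[k] B))
    (h' : Rel φZ F i' j' B' (AlgHom.id k B') ((e' : CartDual.D k A' →ₐc[k] B') : CartDual.D k A' →ₐ[k] B')) :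
    τ.comp (e : CartDual.D k A →ₐc[k] B) = (e' : CartDual.D k A' →ₐc[k] B').comp (CartDual.transpose k ρ) := by
  have h1 := rel_postcomp hX hZ f g F hF A i A' i' hA' ρ hρ gt hgt Ft hFt B j B' j' hB' τ hτ h'
  have h2 := rel_natural hX hY f A i hA ft hft B j hB B B' (τ : B →ₐ[k] B') _ _ h
  rw [AlgHom.comp_id] at h2
  have h3 := rel_unique_right hX hY f A i hA ft hft B j hB B' _ _ _ h2 h1
  apply BialgHom.ext
  intro x
  exact DFunLike.congr_fun h3 x

end compat2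

end K497.PolKC
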