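import Groth.Agent.SGA7.K497.DualBC
import Groth.Agent.SGA7.K497.Pol
import Groth.Agent.SGA7.K852.Sch

/-!
# The polarisation over a discrete valuation ring

Tate's theorem applied to the homomorphisms of `K497.Pol`: if the Tate projective system of an abelian variety extends
to a Barsotti-Tate group over a discrete valuation ring `R` of mixed characteristic, with coordinate rings `Φ.B n`, there
are compatible homomorphisms `D R (Φ.B n) → Φ.B n`, `Φ.B n → D R (Φ.B n)` with both composites the `N`-th convolution power.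
-/

set_option autoImplicit false
set_option linter.unusedSectionVars false
universe u

open CategoryTheory CategoryTheory.Limits MonoidalCategory CartesianMonoidalCategory MonObj GrpObj
  AlgebraicGeometry TensorProduct

namespace K497.PolR

open CoactBr CartDual Groth.Agent.Books Groth.Agent.Books.AffBridge K564.Tate K497.DualBC K497.Pol

section alg

/-- conjugation of power maps -/
theorem conj_pow {K A C : Type u} [Field K] [CommRing A] [HopfAlgebra K A] [Coalgebra.IsCocomm K A]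
    [CommRing C] [HopfAlgebra K C] [Coalgebra.IsCocomm K C] (e : A →ₐc[K] C) (e' : C →ₐc[K] A)
    (he : e'.comp e = BialgHom.id K A) (N : ℕ) :
    (e'.comp (((WithConv.toConv (BialgHom.id K C)) ^ N).ofConv)).comp e =
      ((WithConv.toConv (BialgHom.id K A)) ^ N).ofConv := by
  apply pt_ext
  have := isMonHom_pt e
  rw [pt_bcomp, pt_bcomp, pt_id_pow, pt_id_pow, Category.assoc, MonObj.pow_comp, Category.id_comp, MonObj.comp_pow,
    ← pt_bcomp, he]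
  congr 1
  exact pt_id

/-- the two composites, in general -/
theorem comp_pow₂ {R K : Type u} [CommRing R] [IsDomain R] [IsPrincipalIdealRing R] [Field K] [Algebra R K] {E F C : Type u} [CommRing E] [HopfAlgebra R E]
    [Coalgebra.IsCocomm R E] [CommRing F] [HopfAlgebra R F] [CommRing C] [HopfAlgebra K C] [Coalgebra.IsCocomm K C]
    (hinj : ∀ f g : E →ₐc[R] E, bcHom K f = bcHom K g → f = g)
    (e : K ⊗[R] E →ₐc[K] C) (e' : C →ₐc[K] K ⊗[R] E) (he : e'.comp e = BialgHom.id K (K ⊗[R] E))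
    (u : C →ₐc[K] K ⊗[R] F) (v : K ⊗[R] F →ₐc[K] C) (u' : E →ₐc[R] F) (v' : F →ₐc[R] E) (hu : u.comp e = bcHom K u')
    (hv : e'.comp v = bcHom K v') (N : ℕ)
    (huv : v.comp u = ((WithConv.toConv (BialgHom.id K C)) ^ N).ofConv) :
    v'.comp u' = ((WithConv.toConv (BialgHom.id R E)) ^ N).ofConv := by
  apply hinj
  rw [bcHom_comp, ← hu, ← hv, bcHom_id_pow, BialgHom.comp_assoc, ← BialgHom.comp_assoc v, huv, ← BialgHom.comp_assoc]
  exact conj_pow e e' he N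

variable (R K : Type u) [CommRing R] [IsDomain R] [IsDiscreteValuationRing R] [CharZero R] [Field K] [Algebra R K]
  [IsFractionRing R K]

theorem bcHom_injective {B B' : Type u} [CommRing B] [HopfAlgebra R B] [Module.Free R B] [CommRing B']
    [HopfAlgebra R B'] {f g : B' →ₐc[R] B} (hfg : bcHom K f = bcHom K g) : f = g := by
  apply BialgHom.ext
  intro x
  apply one_tmul_injective (R := R) (K := K) B
  exact congrArg (fun w : K ⊗[R] B' →ₐc[K] K ⊗[R] B ↦ w (1 ⊗ₜ x)) hfg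

theorem bcHom_apply_eq {B B' : Type u} [CommRing B] [HopfAlgebra R B] [CommRing B'] [HopfAlgebra R B']
    (f : B' →ₐc[R] B) (z : K ⊗[R] B') : (f : B' →ₐ[R] B).toLinearMap.lTensor K z = bcHom K f z := by
  induction z using TensorProduct.induction_on with
  | zero => rw [map_zero, map_zero]
  | tmul s a => rfl
  | add x y hx hy => rw [map_add, map_add, hx, hy]

/-- Tate's theorem for the polarisation. -/
theorem algMain (hN : NFull.{u}) (p h : ℕ) [Fact p.Prime]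
    (hp : (p : R) ∈ IsLocalRing.maximalIdeal R) (Φ : Sys R p h) (N : ℕ)
    (u : ∀ n, D K (K ⊗[R] Φ.B n) →ₐc[K] K ⊗[R] Φ.B n) (v : ∀ n, K ⊗[R] Φ.B n →ₐc[K] D K (K ⊗[R] Φ.B n))
    (h1 : ∀ n, (bcHom K (Φ.res n)).comp (u (n + 1)) = (u n).comp (transpose K (bcHom K (Φ.inf n))))
    (h2 : ∀ n, (bcHom K (Φ.inf n)).comp (u n) = (u (n + 1)).comp (transpose K (bcHom K (Φ.res n))))
    (h3 : ∀ n, (transpose K (bcHom K (Φ.inf n))).comp (v (n + 1)) = (v n).comp (bcHom K (Φ.res n)))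
    (h4 : ∀ n, (transpose K (bcHom K (Φ.res n))).comp (v n) = (v (n + 1)).comp (bcHom K (Φ.inf n)))
    (h5 : ∀ n, (u n).comp (v n) = ((WithConv.toConv (BialgHom.id K (K ⊗[R] Φ.B n))) ^ N).ofConv)
    (h6 : ∀ n, (v n).comp (u n) = ((WithConv.toConv (BialgHom.id K (D K (K ⊗[R] Φ.B n)))) ^ N).ofConv) :
    ∃ (u' : ∀ n, D R (Φ.B n) →ₐc[R] Φ.B n) (v' : ∀ n, Φ.B n →ₐc[R] D R (Φ.B n)),
      (∀ n, (Φ.res n).comp (u' (n + 1)) = (u' n).comp (transpose R (Φ.inf n))) ∧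
      (∀ n, (Φ.inf n).comp (u' n) = (u' (n + 1)).comp (transpose R (Φ.res n))) ∧
      (∀ n, (transpose R (Φ.inf n)).comp (v' (n + 1)) = (v' n).comp (Φ.res n)) ∧
      (∀ n, (transpose R (Φ.res n)).comp (v' n) = (v' (n + 1)).comp (Φ.inf n)) ∧
      (∀ n, (u' n).comp (v' n) = ((WithConv.toConv (BialgHom.id R (Φ.B n))) ^ N).ofConv) ∧
      (∀ n, (v' n).comp (u' n) = ((WithConv.toConv (BialgHom.id R (D R (Φ.B n)))) ^ N).ofConv) := by
  have a1 : ∀ n, ((dbc (R := R) K (Φ.B n)).symm : D K (K ⊗[R] Φ.B n) →ₐc[K] K ⊗[R] D R (Φ.B n)).comp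
      (dbc (R := R) K (Φ.B n) : K ⊗[R] D R (Φ.B n) →ₐc[K] D K (K ⊗[R] Φ.B n)) =
      BialgHom.id K (K ⊗[R] D R (Φ.B n)) := fun n ↦ by
    apply BialgHom.ext
    intro x
    exact (dbc (R := R) K (Φ.B n)).symm_apply_apply x
  have a2 : ∀ n, (dbc (R := R) K (Φ.B n) : K ⊗[R] D R (Φ.B n) →ₐc[K] D K (K ⊗[R] Φ.B n)).comp
      ((dbc (R := R) K (Φ.B n)).symm : D K (K ⊗[R] Φ.B n) →ₐc[K] K ⊗[R] D R (Φ.B n)) =
      BialgHom.id K (D K (K ⊗[R] Φ.B n)) := fun n ↦ by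
    apply BialgHom.ext
    intro x
    exact (dbc (R := R) K (Φ.B n)).apply_symm_apply x
  have nt : ∀ n m (f : Φ.B n →ₐc[R] Φ.B m),
      (dbc (R := R) K (Φ.B n) : K ⊗[R] D R (Φ.B n) →ₐc[K] D K (K ⊗[R] Φ.B n)).comp (bcHom K (transpose R f)) =
      (transpose K (bcHom K f)).comp (dbc (R := R) K (Φ.B m) : K ⊗[R] D R (Φ.B m) →ₐc[K] D K (K ⊗[R] Φ.B m)) :=
    fun n m f ↦ dbc_transpose K f
  -- the two maps over `K`
  let φ : ∀ n, K ⊗[R] D R (Φ.B n) →ₐc[K] K ⊗[R] Φ.B n := fun n ↦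
    (u n).comp (dbc (R := R) K (Φ.B n) : K ⊗[R] D R (Φ.B n) →ₐc[K] D K (K ⊗[R] Φ.B n))
  let ψ : ∀ n, K ⊗[R] Φ.B n →ₐc[K] K ⊗[R] D R (Φ.B n) := fun n ↦
    ((dbc (R := R) K (Φ.B n)).symm : D K (K ⊗[R] Φ.B n) →ₐc[K] K ⊗[R] D R (Φ.B n)).comp (v n)
  have φ1 : ∀ n, (φ n).comp (bcHom K (transpose R (Φ.inf n))) = (bcHom K (Φ.res n)).comp (φ (n + 1)) := fun n ↦ by
    change ((u n).comp _).comp _ = (bcHom K (Φ.res n)).comp ((u (n + 1)).comp _)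
    rw [BialgHom.comp_assoc, nt, ← BialgHom.comp_assoc, ← h1, BialgHom.comp_assoc]
  have φ2 : ∀ n, (φ (n + 1)).comp (bcHom K (transpose R (Φ.res n))) = (bcHom K (Φ.inf n)).comp (φ n) := fun n ↦ by
    change ((u (n + 1)).comp _).comp _ = (bcHom K (Φ.inf n)).comp ((u n).comp _)
    rw [BialgHom.comp_assoc, nt, ← BialgHom.comp_assoc, ← h2, BialgHom.comp_assoc]
  have ψ1 : ∀ n, (ψ n).comp (bcHom K (Φ.res n)) = (bcHom K (transpose R (Φ.inf n))).comp (ψ (n + 1)) := fun n ↦ by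
    have e1 : bcHom K (transpose R (Φ.inf n)) =
        ((dbc (R := R) K (Φ.B n)).symm : D K (K ⊗[R] Φ.B n) →ₐc[K] K ⊗[R] D R (Φ.B n)).comp
          ((transpose K (bcHom K (Φ.inf n))).comp
            (dbc (R := R) K (Φ.B (n + 1)) : K ⊗[R] D R (Φ.B (n + 1)) →ₐc[K] D K (K ⊗[R] Φ.B (n + 1)))) := by
      rw [← nt, ← BialgHom.comp_assoc, a1, BialgHom.id_comp]
    change ((_ : D K (K ⊗[R] Φ.B n) →ₐc[K] K ⊗[R] D R (Φ.B n)).comp (v n)).comp _ =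
      (bcHom K (transpose R (Φ.inf n))).comp ((_ : D K (K ⊗[R] Φ.B (n + 1)) →ₐc[K] K ⊗[R] D R (Φ.B (n + 1))).comp (v (n + 1)))
    rw [e1, BialgHom.comp_assoc, ← h3, BialgHom.comp_assoc, BialgHom.comp_assoc,
      ← BialgHom.comp_assoc (dbc (R := R) K (Φ.B (n + 1)) : K ⊗[R] D R (Φ.B (n + 1)) →ₐc[K] D K (K ⊗[R] Φ.B (n + 1))),
      a2, BialgHom.id_comp]
  have ψ2 : ∀ n, (ψ (n + 1)).comp (bcHom K (Φ.inf n)) = (bcHom K (transpose R (Φ.res n))).comp (ψ n) := fun n ↦ by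
    have e1 : bcHom K (transpose R (Φ.res n)) =
        ((dbc (R := R) K (Φ.B (n + 1))).symm : D K (K ⊗[R] Φ.B (n + 1)) →ₐc[K] K ⊗[R] D R (Φ.B (n + 1))).comp
          ((transpose K (bcHom K (Φ.res n))).comp
            (dbc (R := R) K (Φ.B n) : K ⊗[R] D R (Φ.B n) →ₐc[K] D K (K ⊗[R] Φ.B n))) := by
      rw [← nt, ← BialgHom.comp_assoc, a1, BialgHom.id_comp]
    change ((_ : D K (K ⊗[R] Φ.B (n + 1)) →ₐc[K] K ⊗[R] D R (Φ.B (n + 1))).comp (v (n + 1))).comp _ =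
      (bcHom K (transpose R (Φ.res n))).comp ((_ : D K (K ⊗[R] Φ.B n) →ₐc[K] K ⊗[R] D R (Φ.B n)).comp (v n))
    rw [e1, BialgHom.comp_assoc, ← h4, BialgHom.comp_assoc, BialgHom.comp_assoc,
      ← BialgHom.comp_assoc (dbc (R := R) K (Φ.B n) : K ⊗[R] D R (Φ.B n) →ₐc[K] D K (K ⊗[R] Φ.B n)),
      a2, BialgHom.id_comp]
  have comp_apply : ∀ {X Y Z : Type u} [CommRing X] [Bialgebra K X] [CommRing Y] [Bialgebra K Y] [CommRing Z]
      [Bialgebra K Z] (f : Y →ₐc[K] Z) (g : X →ₐc[K] Y) (x : X), f.comp g x = f (g x) := fun _ _ _ ↦ rfl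
  obtain ⟨u', hu, hu1, hu2⟩ : ∃ g : ∀ n, D R (Φ.B n) →ₐc[R] Φ.B n, (∀ n a, φ n (1 ⊗ₜ a) = 1 ⊗ₜ g n a) ∧
      (∀ n (a : D R (Φ.B (n + 1))), g n (transpose R (Φ.inf n) a) = Φ.res n (g (n + 1) a)) ∧
      (∀ n (a : D R (Φ.B n)), g (n + 1) (transpose R (Φ.res n) a) = Φ.inf n (g n a)) :=
    hN.exists_hom R K p h h hp Φ Φ.dual φ
    (fun n a ↦ by
      refine Eq.trans ?_ (bcHom_apply_eq R K (Φ.res n) (φ (n + 1) (1 ⊗ₜ a))).symm
      exact congrArg (fun w : K ⊗[R] D R (Φ.B (n + 1)) →ₐc[K] K ⊗[R] Φ.B n ↦ w (1 ⊗ₜ a)) (φ1 n))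
    (fun n a ↦ by
      refine Eq.trans ?_ (bcHom_apply_eq R K (Φ.inf n) (φ n (1 ⊗ₜ a))).symm
      exact congrArg (fun w : K ⊗[R] D R (Φ.B n) →ₐc[K] K ⊗[R] Φ.B (n + 1) ↦ w (1 ⊗ₜ a)) (φ2 n))
  obtain ⟨v', hv, hv1, hv2⟩ : ∃ g : ∀ n, Φ.B n →ₐc[R] D R (Φ.B n), (∀ n a, ψ n (1 ⊗ₜ a) = 1 ⊗ₜ g n a) ∧
      (∀ n (a : Φ.B (n + 1)), g n (Φ.res n a) = transpose R (Φ.inf n) (g (n + 1) a)) ∧
      (∀ n (a : Φ.B n), g (n + 1) (Φ.inf n a) = transpose R (Φ.res n) (g n a)) :=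
    hN.exists_hom R K p h h hp Φ.dual Φ ψ
    (fun n a ↦ by
      refine Eq.trans ?_ (bcHom_apply_eq R K (transpose R (Φ.inf n)) (ψ (n + 1) (1 ⊗ₜ a))).symm
      exact congrArg (fun w : K ⊗[R] Φ.B (n + 1) →ₐc[K] K ⊗[R] D R (Φ.B n) ↦ w (1 ⊗ₜ a)) (ψ1 n))
    (fun n a ↦ by
      refine Eq.trans ?_ (bcHom_apply_eq R K (transpose R (Φ.res n)) (ψ n (1 ⊗ₜ a))).symm
      exact congrArg (fun w : K ⊗[R] Φ.B n →ₐc[K] K ⊗[R] D R (Φ.B (n + 1)) ↦ w (1 ⊗ₜ a)) (ψ2 n))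
  have hu' : ∀ n, φ n = bcHom K (u' n) := fun n ↦ bcHom_ext K (hu n)
  have hv' : ∀ n, ψ n = bcHom K (v' n) := fun n ↦ by
    apply bcHom_ext (R := R) (B' := Φ.B n) (C := K ⊗[R] D R (Φ.B n)) K
    exact hv n
  refine ⟨u', v', fun n ↦ ?_, fun n ↦ ?_, fun n ↦ ?_, fun n ↦ ?_, fun n ↦ ?_, fun n ↦ ?_⟩
  · apply BialgHom.ext
    intro x
    exact (hu1 n x).symm
  · apply BialgHom.ext
    intro x
    exact (hu2 n x).symm
  · apply BialgHom.ext
    intro x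
    exact (hv1 n x).symm
  · apply BialgHom.ext
    intro x
    exact (hv2 n x).symm
  · apply bcHom_injective R K
    rw [bcHom_comp, ← hu', ← hv', bcHom_id_pow, ← h5]
    change ((u n).comp _).comp ((_ : D K (K ⊗[R] Φ.B n) →ₐc[K] K ⊗[R] D R (Φ.B n)).comp (v n)) = _
    rw [BialgHom.comp_assoc, ← BialgHom.comp_assoc (dbc (R := R) K (Φ.B n) : K ⊗[R] D R (Φ.B n) →ₐc[K] D K (K ⊗[R] Φ.B n)),
      a2, BialgHom.id_comp]
  · exact comp_pow₂ (R := R) (K := K) (E := D R (Φ.B n)) (F := Φ.B n) (C := D K (K ⊗[R] Φ.B n))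
      (fun f g hfg ↦ bcHom_injective R K (B := D R (Φ.B n)) (B' := D R (Φ.B n)) hfg)
      (dbc (R := R) K (Φ.B n) : K ⊗[R] D R (Φ.B n) →ₐc[K] D K (K ⊗[R] Φ.B n))
      ((dbc (R := R) K (Φ.B n)).symm : D K (K ⊗[R] Φ.B n) →ₐc[K] K ⊗[R] D R (Φ.B n)) (a1 n) (u n) (v n) (u' n) (v' n)
      (hu' n) (hv' n) N (h6 n)

end alg

section geo

theorem mapBialg_eq_bcHom {R K B B' : Type u} [CommRing R] [Field K] [Algebra R K] [CommRing B] [HopfAlgebra R B]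
    [CommRing B'] [HopfAlgebra R B'] (f : B' →ₐc[R] B) : Groth.Agent.Sga3A.BCIso.mapBialg K f = bcHom K f := rfl

/-- **Node POL over the discrete valuation ring**, from Tate's theorem. -/
theorem main (hN : NFull.{u}) (R K : Type u) [CommRing R] [IsDomain R] [IsDiscreteValuationRing R] [CharZero R]
    [Field K] [Algebra R K] [IsFractionRing R K]
    (A : Over (Spec (CommRingCat.of K))) [GrpObj A] [IsCommMonObj A] [IsProper A.hom] [GeometricallyIntegral A.hom]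
    (p : ℕ) [Fact p.Prime] (hp : (p : R) ∈ IsLocalRing.maximalIdeal R)
    (P : ℕ → Over (Spec (CommRingCat.of K))) [∀ ν, GrpObj (P ν)] (i : ∀ ν, P ν ⟶ A) (t : ∀ ν, P (ν + 1) ⟶ P ν)
    (hP : BTGrp.IsTatePro A p P i t)
    (h : ℕ) (G : BTGrp.ProBT p (Spec (CommRingCat.of R)) h)
    (e : ∀ ν, Red.bc (Spec.map (CommRingCat.ofHom (algebraMap R K))) (G.G ν) ≅ P ν)
    (he : ∀ ν, IsMonHom (e ν).hom)
    (het : ∀ ν, (SGA7.genFib R K).map (G.proj ν) ≫ (e ν).hom = (e (ν + 1)).hom ≫ t ν)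
    (hei : ∀ ν, (SGA7.genFib R K).map (G.incl ν) ≫ (e (ν + 1)).hom ≫ i (ν + 1) = (e ν).hom ≫ i ν)
    (Φ : Sys R p h) (M : K852.Dict.Model G Φ) :
    ∃ (N : ℕ) (u : ∀ n, D R (Φ.B n) →ₐc[R] Φ.B n) (v : ∀ n, Φ.B n →ₐc[R] D R (Φ.B n)), 1 ≤ N ∧
      (∀ n, (Φ.res n).comp (u (n + 1)) = (u n).comp (transpose R (Φ.inf n))) ∧
      (∀ n, (Φ.inf n).comp (u n) = (u (n + 1)).comp (transpose R (Φ.res n))) ∧
      (∀ n, (transpose R (Φ.inf n)).comp (v (n + 1)) = (v n).comp (Φ.res n)) ∧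
      (∀ n, (transpose R (Φ.res n)).comp (v n) = (v (n + 1)).comp (Φ.inf n)) ∧
      (∀ n, (u n).comp (v n) = ((WithConv.toConv (BialgHom.id R (Φ.B n))) ^ N).ofConv) ∧
      (∀ n, (v n).comp (u n) = ((WithConv.toConv (BialgHom.id R (D R (Φ.B n)))) ^ N).ofConv) := by
  let e' : ∀ n, P n ≅ sp K (K ⊗[R] Φ.B n) := fun n ↦ (e n).symm ≪≫ K852.Sch.gIso (K := K) M n
  have he' : ∀ n, IsMonHom (e' n).hom := fun n ↦ by
    have := he n
    change IsMonHom ((e n).inv ≫ (K852.Sch.gIso (K := K) M n).hom)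
    infer_instance
  obtain ⟨N, u, v, hN', q1, q2, q3, q4, q5, q6⟩ := K497.Pol.main K A p P i t hP (fun n ↦ K ⊗[R] Φ.B n) e' he'
    (fun n ↦ bcHom K (Φ.res n)) (fun n ↦ by
      have h1 := K852.Sch.gIso_incl (K := K) M n
      have h2 := hei n
      rw [mapBialg_eq_bcHom] at h1
      change pt (bcHom K (Φ.res n) : K ⊗[R] Φ.B (n + 1) →ₐ[K] K ⊗[R] Φ.B n) ≫
        ((K852.Sch.gIso (K := K) M (n + 1)).inv ≫ (e (n + 1)).hom) ≫ i (n + 1) =
        ((K852.Sch.gIso (K := K) M n).inv ≫ (e n).hom) ≫ i n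
      rw [pt_eq, Category.assoc, Category.assoc, ← h2, ← cancel_epi (K852.Sch.gIso (K := K) M n).hom,
        Iso.hom_inv_id_assoc, ← Category.assoc (K852.Sch.gIso (K := K) M n).hom, ← h1, Category.assoc,
        Iso.hom_inv_id_assoc])
    (fun n ↦ bcHom K (Φ.inf n)) (fun n ↦ by
      have h1 := K852.Sch.gIso_proj (K := K) M n
      have h2 := het n
      rw [mapBialg_eq_bcHom] at h1
      change pt (bcHom K (Φ.inf n) : K ⊗[R] Φ.B n →ₐ[K] K ⊗[R] Φ.B (n + 1)) ≫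
        ((K852.Sch.gIso (K := K) M n).inv ≫ (e n).hom) =
        ((K852.Sch.gIso (K := K) M (n + 1)).inv ≫ (e (n + 1)).hom) ≫ t n
      rw [pt_eq, Category.assoc, ← h2, ← cancel_epi (K852.Sch.gIso (K := K) M (n + 1)).hom,
        Iso.hom_inv_id_assoc, ← Category.assoc (K852.Sch.gIso (K := K) M (n + 1)).hom, ← h1, Category.assoc,
        Iso.hom_inv_id_assoc])
  obtain ⟨u', v', r1, r2, r3, r4, r5, r6⟩ := algMain R K hN p h hp Φ N u v q1 q2 q3 q4 q5 q6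
  exact ⟨N, u', v', hN', r1, r2, r3, r4, r5, r6⟩

end geo

end K497.PolR
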