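import Mathlib.RingTheory.HopfAlgebra.Convolution
import Mathlib.RingTheory.Trace.Basic
import Mathlib.LinearAlgebra.TensorProduct.Basis
import Mathlib.LinearAlgebra.Matrix.ToLinearEquiv

/-!
# Invariant functionals and integrals of finite free commutative Hopf algebras

`R` a commutative ring, `B` a commutative Hopf algebra over `R`, free as a module.

* `Inv l` : the functional `l : B → R` is invariant, `(id ⊗ l) Δ y = l y`;
* `repr_mem` : if `l` is invariant and takes the value `1`, then `l (b x) ∈ J` for all `b` implies `x ∈ J B`;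
* `perfect` : then `(x, y) ↦ l (x y)` is a perfect pairing (`B` finite free);
* `inv_trace` : the trace is invariant;
* `IsInt l t` : `l` invariant, `l t = 1`, `b t = ε(b) t`;
* `IsInt.trace_eq` : the trace is `ε(t) l`.
-/

set_option autoImplicit false

open TensorProduct Coalgebra

namespace K497.TrInt

section basic

variable {R B : Type*} [CommRing R] [CommRing B] [HopfAlgebra R B]

/-- The shear endomorphism `x ⊗ y ↦ (x ⊗ 1) Δ(y)` over the left factor. -/
noncomputable def sh : B ⊗[R] B →ₐ[B] B ⊗[R] B :=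
  Algebra.TensorProduct.productLeftAlgHom (Algebra.ofId B _) (Bialgebra.comulAlgHom R B)

theorem sh_tmul (x y : B) : (sh : B ⊗[R] B →ₐ[B] B ⊗[R] B) (x ⊗ₜ y) = (x ⊗ₜ 1) * comul (R := R) y := by
  simp [sh, Algebra.TensorProduct.productLeftAlgHom, Algebra.ofId_apply,
    Algebra.TensorProduct.algebraMap_apply]

/-- `(S ⊗ 1) Δ y`. -/
noncomputable def un (y : B) : B ⊗[R] B := ((HopfAlgebra.antipode R (A := B)).rTensor B) (comul (R := R) y)

theorem sh_un (y : B) : (sh : B ⊗[R] B →ₐ[B] B ⊗[R] B) (un y) = 1 ⊗ₜ y := by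
  have h1 : ∀ t : B ⊗[R] B,
      (sh : B ⊗[R] B →ₐ[B] B ⊗[R] B) (((HopfAlgebra.antipode R (A := B)).rTensor B) t) =
        ((LinearMap.mul' R B ∘ₗ (HopfAlgebra.antipode R (A := B)).rTensor B).rTensor B)
          ((TensorProduct.assoc R B B B).symm ((Coalgebra.comul (R := R) (A := B)).lTensor B t)) := by
    intro t
    induction t using TensorProduct.induction_on with
    | zero => simp
    | add a b ha hb => simp only [map_add, ha, hb]
    | tmul a b =>
      simp only [LinearMap.rTensor_tmul, LinearMap.lTensor_tmul, sh_tmul]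
      generalize (Coalgebra.comul (R := R) b) = s
      induction s using TensorProduct.induction_on with
      | zero => simp
      | add a b ha hb => simp only [map_add, mul_add, ha, hb, TensorProduct.tmul_add]
      | tmul c d =>
        simp
  rw [un, h1, Coalgebra.coassoc_symm_apply, ← LinearMap.rTensor_comp_apply]
  have h2 : (LinearMap.mul' R B ∘ₗ (HopfAlgebra.antipode R (A := B)).rTensor B) ∘ₗ
      Coalgebra.comul (R := R) (A := B) = (Algebra.linearMap R B) ∘ₗ Coalgebra.counit :=
    HopfAlgebra.mul_antipode_rTensor_comul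
  rw [h2, LinearMap.rTensor_comp_apply, Coalgebra.rTensor_counit_comul]
  simp

/-- The slice `x ⊗ y ↦ l y • x`. -/
noncomputable def sl (l : B →ₗ[R] R) : B ⊗[R] B →ₗ[B] B :=
  (AlgebraTensorModule.rid R B B).toLinearMap ∘ₗ l.baseChange B

@[simp] theorem sl_tmul (l : B →ₗ[R] R) (x y : B) : sl l (x ⊗ₜ y) = l y • x := by
  simp [sl]

/-- Invariant functional. -/
def Inv (l : B →ₗ[R] R) : Prop := ∀ y : B, sl l (comul (R := R) y) = algebraMap R B (l y)

theorem Inv.sl_sh {l : B →ₗ[R] R} (h : Inv l) (z : B ⊗[R] B) : sl l (sh z) = sl l z := by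
  induction z using TensorProduct.induction_on with
  | zero => simp
  | add a b ha hb => simp only [map_add, ha, hb]
  | tmul x y =>
    have h1 : (x ⊗ₜ[R] (1 : B)) * comul (R := R) y = x • comul (R := R) y := by
      rw [Algebra.smul_def, Algebra.TensorProduct.algebraMap_apply]; rfl
    rw [sh_tmul, h1, map_smul, h y, sl_tmul, smul_eq_mul, mul_comm, ← Algebra.smul_def]

theorem Inv.of_smul {l : B →ₗ[R] R} {a : R} (ha : ∀ x : B, a • x = 0 → x = 0) (h : Inv (a • l)) : Inv l := by
  intro y
  have h1 := h y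
  have h2 : sl (a • l) = a • sl l := by
    refine LinearMap.ext fun z => ?_
    induction z using TensorProduct.induction_on with
    | zero => simp
    | add u v hu hv => simp only [map_add, hu, hv]
    | tmul u v => simp [mul_smul]
  rw [h2, LinearMap.smul_apply, LinearMap.smul_apply, smul_eq_mul, map_mul, ← Algebra.smul_def] at h1
  exact sub_eq_zero.1 (ha _ (by rw [smul_sub, h1, sub_self]))

end basic

section free

variable {R B : Type*} [CommRing R] [CommRing B] [HopfAlgebra R B]

theorem sl_mul_mem {ι : Type*} (e : Module.Basis ι R B) (J : Ideal R) (l : B →ₗ[R] R) {x : B}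
    (hx : ∀ b, l (b * x) ∈ J) (w : B ⊗[R] B) (i : ι) : e.repr (sl l (w * (1 ⊗ₜ x))) i ∈ J := by
  induction w using TensorProduct.induction_on with
  | zero => simp
  | add a b ha hb =>
    rw [add_mul, map_add, map_add, Finsupp.add_apply]
    exact J.add_mem ha hb
  | tmul a c =>
    rw [Algebra.TensorProduct.tmul_mul_tmul, mul_one, sl_tmul, map_smul, Finsupp.smul_apply, smul_eq_mul]
    exact J.mul_mem_right _ (hx c)

/-- The components of `Δ x`. -/
theorem comp_mem {ι : Type*} (e : Module.Basis ι R B) (J : Ideal R) {l : B →ₗ[R] R} (hl : Inv l) {x : B}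
    (hx : ∀ b, l (b * x) ∈ J) (n : ι →₀ B) (hn : (n.sum fun i b => e i ⊗ₜ[R] b) = comul (R := R) x) (i : ι) (b : B) :
    l (b * n i) ∈ J := by
  classical
  have h0 : (sh : B ⊗[R] B →ₐ[B] B ⊗[R] B) (un b * (1 ⊗ₜ x)) = 1 ⊗ₜ b * comul (R := R) x := by
    rw [map_mul, sh_un, sh_tmul, show ((1 : B) ⊗ₜ[R] (1 : B)) = 1 from rfl, one_mul]
  have h1 : sl l (1 ⊗ₜ b * comul (R := R) x) = sl l (un b * (1 ⊗ₜ x)) := by
    rw [← hl.sl_sh (un b * (1 ⊗ₜ x)), h0]
  have h2 : sl l (1 ⊗ₜ b * comul (R := R) x) = n.sum fun i c => l (b * c) • e i := by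
    rw [← hn, Finsupp.sum, Finset.mul_sum, map_sum]
    refine Finset.sum_congr rfl fun i _ => ?_
    rw [Algebra.TensorProduct.tmul_mul_tmul, one_mul, sl_tmul]
  have h3 : e.repr (n.sum fun i c => l (b * c) • e i) i = l (b * n i) := by
    rw [Finsupp.sum, map_sum, Finsupp.finsetSum_apply]
    simp only [map_smul, Module.Basis.repr_self, Finsupp.smul_single, smul_eq_mul, mul_one]
    by_cases hi : i ∈ n.support
    · rw [Finset.sum_eq_single_of_mem i hi (fun j _ hj => by rw [Finsupp.single_apply, if_neg hj])]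
      simp
    · rw [Finset.sum_eq_zero (fun j hj => by
        rw [Finsupp.single_apply, if_neg (fun h : j = i => hi (h ▸ hj))])]
      rw [Finsupp.notMem_support_iff.1 hi]; simp
  rw [← h3, ← h2, h1]
  exact sl_mul_mem e J l hx _ i

theorem counit_mem {ι : Type*} (e : Module.Basis ι R B) (J : Ideal R) {l : B →ₗ[R] R} (hl : Inv l) {u : B}
    (hu : l u = 1) {x : B} (hx : ∀ b, l (b * x) ∈ J) : counit (R := R) x ∈ J := by
  obtain ⟨n, hn⟩ := TensorProduct.eq_repr_basis_left e (comul (R := R) x)
  have h1 := HopfAlgebra.mul_antipode_rTensor_comul_apply (R := R) x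
  rw [← hn, Finsupp.sum, map_sum, map_sum] at h1
  have h2 : l (u * algebraMap R B (counit (R := R) x)) = counit (R := R) x := by
    rw [mul_comm, ← Algebra.smul_def, map_smul, hu, smul_eq_mul, mul_one]
  rw [← h2, ← h1, Finset.mul_sum, map_sum]
  refine J.sum_mem fun i _ => ?_
  rw [LinearMap.rTensor_tmul, LinearMap.mul'_apply, ← mul_assoc]
  exact comp_mem e J hl hx n hn i _

/-- An invariant functional taking the value `1` is nondegenerate modulo every ideal. -/
theorem repr_mem {ι : Type*} (e : Module.Basis ι R B) (J : Ideal R) {l : B →ₗ[R] R} (hl : Inv l) {u : B}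
    (hu : l u = 1) {x : B} (hx : ∀ b, l (b * x) ∈ J) (i : ι) : e.repr x i ∈ J := by
  obtain ⟨n, hn⟩ := TensorProduct.eq_repr_basis_left e (comul (R := R) x)
  have h1 := Coalgebra.lTensor_counit_comul (R := R) x
  rw [← hn, Finsupp.sum, map_sum] at h1
  have h2 : ∑ i ∈ n.support, counit (R := R) (n i) • e i = x := by
    have := congrArg (TensorProduct.rid R B) h1
    rw [map_sum] at this
    simpa using this
  rw [← h2, map_sum, Finsupp.finsetSum_apply]
  refine J.sum_mem fun j _ => ?_
  rw [map_smul, Finsupp.smul_apply, smul_eq_mul]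
  exact J.mul_mem_right _ (counit_mem e J hl hu (comp_mem e J hl hx n hn j))

/-- An invariant functional taking the value `1` is nondegenerate. -/
theorem eq_zero_of [Module.Free R B] {l : B →ₗ[R] R} (hl : Inv l) {u : B} (hu : l u = 1) {x : B}
    (hx : ∀ b, l (b * x) = 0) : x = 0 := by
  have e := Module.Free.chooseBasis R B
  refine e.repr.injective (Finsupp.ext fun i => ?_)
  rw [map_zero, Finsupp.zero_apply]
  have := repr_mem e ⊥ hl hu (fun b => (Ideal.mem_bot (R := R)).2 (hx b)) i
  exact (Ideal.mem_bot (R := R)).1 this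

/-- An invariant functional taking the value `1` gives a perfect pairing. -/
theorem perfect [Module.Free R B] [Module.Finite R B] {l : B →ₗ[R] R} (hl : Inv l) {u : B} (hu : l u = 1)
    (φ : B →ₗ[R] R) : ∃ x, ∀ y, l (y * x) = φ y := by
  classical
  let e := Module.Free.chooseBasis R B
  let M : Matrix (Module.Free.ChooseBasisIndex R B) (Module.Free.ChooseBasisIndex R B) R :=
    Matrix.of fun i j => l (e i * e j)
  have hM : IsUnit M.det := by
    by_contra hcon
    obtain ⟨m, hm, hdet⟩ := exists_max_ideal_of_mem_nonunits (mem_nonunits_iff.2 hcon)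
    let κ := R ⧸ m
    let _ : Field κ := Ideal.Quotient.field m
    have h0 : (M.map (Ideal.Quotient.mk m)).det = 0 := by
      have : (M.map (Ideal.Quotient.mk m)).det = Ideal.Quotient.mk m M.det := by
        rw [RingHom.map_det]; rfl
      rw [this]; exact Ideal.Quotient.eq_zero_iff_mem.2 hdet
    obtain ⟨v, hv, hv0⟩ := Matrix.exists_mulVec_eq_zero_iff.2 h0
    choose w hw using fun j => Ideal.Quotient.mk_surjective (v j)
    let x : B := ∑ j, w j • e j
    have hx : ∀ b, l (b * x) ∈ m := by
      intro b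
      rw [← e.sum_repr b, Finset.sum_mul, map_sum]
      refine m.sum_mem fun i _ => ?_
      rw [smul_mul_assoc, map_smul, smul_eq_mul]
      refine m.mul_mem_left _ ?_
      rw [← Ideal.Quotient.eq_zero_iff_mem, Finset.mul_sum, map_sum, map_sum]
      have := congrFun hv0 i
      rw [Matrix.mulVec, Pi.zero_apply] at this
      rw [← this, dotProduct]
      refine Finset.sum_congr rfl fun j _ => ?_
      rw [mul_smul_comm, map_smul, smul_eq_mul, map_mul, hw, mul_comm, Matrix.map_apply]
      rfl
    apply hv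
    funext j
    have := repr_mem e m hl hu hx j
    have h2 : e.repr x j = w j := by
      simp only [x, map_sum, map_smul, Finsupp.finsetSum_apply, Finsupp.smul_apply, Module.Basis.repr_self,
        Finsupp.single_apply, smul_eq_mul, mul_ite, mul_one, mul_zero]
      simp
    rw [h2] at this
    rw [← hw j, Pi.zero_apply]
    exact Ideal.Quotient.eq_zero_iff_mem.2 this
  let w := M⁻¹.mulVec fun i => φ (e i)
  refine ⟨∑ j, w j • e j, fun y => ?_⟩
  have h1 : ∀ i, l (e i * ∑ j, w j • e j) = φ (e i) := by
    intro i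
    have h2 : M.mulVec w = fun i => φ (e i) := by
      rw [Matrix.mulVec_mulVec, Matrix.mul_nonsing_inv _ hM, Matrix.one_mulVec]
    rw [← congrFun h2 i, Matrix.mulVec, dotProduct, Finset.mul_sum, map_sum]
    refine Finset.sum_congr rfl fun j _ => ?_
    rw [mul_smul_comm, map_smul, smul_eq_mul, mul_comm]
    rfl
  rw [← e.sum_repr y, Finset.sum_mul, map_sum, map_sum]
  refine Finset.sum_congr rfl fun i _ => ?_
  rw [smul_mul_assoc, map_smul, map_smul, h1]

end free

end K497.TrInt
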