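import Groth.Agent.SGA7.K497.TrInt
import Groth.Prelude.Def_CartDual2

/-!
# Invariance of the trace; integrals

* `inv_trace` : the trace is an invariant functional;
* `IsInt l t` : `l` invariant, `l t = 1`, `b t = ε(b) t`;
* `Inv.eq_smul` : uniqueness of invariant functionals;
* `IsInt.trace_eq` : the trace is `ε(t) l`;
* `exists_isInt` : existence over a principal ideal domain in which the rank is not zero.
-/

set_option autoImplicit false

open TensorProduct Coalgebra

namespace K497.TrInt

section tr

variable {R B : Type*} [CommRing R] [CommRing B] [HopfAlgebra R B]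

theorem trace_tmul [Module.Free R B] [Module.Finite R B] (x y : B) :
    Algebra.trace B (B ⊗[R] B) (x ⊗ₜ y) = x * algebraMap R B (Algebra.trace R B y) := by
  have h : (x ⊗ₜ y : B ⊗[R] B) = x • ((1 : B) ⊗ₜ[R] y) := by
    rw [TensorProduct.smul_tmul', smul_eq_mul, _root_.mul_one]
  rw [h, map_smul, smul_eq_mul]
  congr 1
  rw [Algebra.trace_apply, Algebra.trace_apply, ← LinearMap.trace_baseChange]
  congr 1
  ext z
  simp [Algebra.TensorProduct.tmul_mul_tmul]

theorem sh_surjective : Function.Surjective (sh : B ⊗[R] B →ₐ[B] B ⊗[R] B) := by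
  intro t
  induction t using TensorProduct.induction_on with
  | zero => exact ⟨0, map_zero _⟩
  | add a b ha hb =>
    obtain ⟨a', rfl⟩ := ha
    obtain ⟨b', rfl⟩ := hb
    exact ⟨a' + b', map_add _ _ _⟩
  | tmul x y =>
    refine ⟨x • un y, ?_⟩
    rw [map_smul, sh_un, TensorProduct.smul_tmul', smul_eq_mul, _root_.mul_one]

/-- The trace is an invariant functional. -/
theorem inv_trace [Module.Free R B] [Module.Finite R B] : Inv (Algebra.trace R B) := by
  intro y
  have h1 : ∀ z : B ⊗[R] B, sl (Algebra.trace R B) z = Algebra.trace B (B ⊗[R] B) z := by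
    intro z
    induction z using TensorProduct.induction_on with
    | zero => simp
    | add a b ha hb => simp only [map_add, ha, hb]
    | tmul x y => rw [sl_tmul, trace_tmul, Algebra.smul_def, mul_comm]
  let e : B ⊗[R] B ≃ₐ[B] B ⊗[R] B := AlgEquiv.ofBijective sh
    ⟨OrzechProperty.injective_of_surjective_endomorphism (sh : B ⊗[R] B →ₐ[B] B ⊗[R] B).toLinearMap
      sh_surjective, sh_surjective⟩
  have h2 : (e (1 ⊗ₜ y) : B ⊗[R] B) = comul (R := R) y := by
    change sh (1 ⊗ₜ y) = _
    rw [sh_tmul, show ((1 : B) ⊗ₜ[R] (1 : B)) = 1 from rfl, one_mul]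
  rw [h1, ← h2, Algebra.trace_eq_of_algEquiv, trace_tmul, one_mul]

end tr

section int

variable {R B : Type*} [CommRing R] [CommRing B] [HopfAlgebra R B]

/-- `l` is an invariant functional and `t` an integral with `l t = 1`. -/
structure IsInt (l : B →ₗ[R] R) (t : B) : Prop where
  inv : Inv l
  one : l t = 1
  mul : ∀ b, b * t = counit (R := R) b • t

theorem exists_isInt_of_inv [Module.Free R B] [Module.Finite R B] {l : B →ₗ[R] R} (hl : Inv l) {u : B}
    (hu : l u = 1) : ∃ t, IsInt l t := by
  obtain ⟨t, ht⟩ := perfect hl hu (counit (R := R) (A := B))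
  refine ⟨t, hl, ?_, fun b => ?_⟩
  · have := ht 1
    rwa [one_mul, Bialgebra.counit_one] at this
  · rw [← sub_eq_zero]
    refine eq_zero_of hl hu fun y => ?_
    rw [mul_sub, map_sub, mul_smul_comm, map_smul, ht, ← mul_assoc, ht, Bialgebra.counit_mul, smul_eq_mul,
      mul_comm, sub_self]

namespace IsInt

variable {l : B →ₗ[R] R} {t : B} (h : IsInt l t)
include h

theorem eq_smul_of {x : B} [Module.Free R B] (hx : ∀ b, b * x = counit (R := R) b • x) : x = l x • t := by
  rw [← sub_eq_zero]
  refine eq_zero_of h.inv h.one fun b => ?_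
  rw [mul_sub, map_sub, mul_smul_comm, map_smul, h.mul, map_smul, h.one, hx, map_smul, smul_eq_mul, smul_eq_mul,
    smul_eq_mul, mul_one, mul_comm, sub_self]

theorem mul_self : t * t = counit (R := R) t • t := h.mul t

/-- `Δ` is symmetric, so `l` is also invariant on the other side. -/
theorem inv' [Coalgebra.IsCocomm R B] (y : B) :
    (TensorProduct.lid R B) ((l.rTensor B) (comul (R := R) y)) = algebraMap R B (l y) := by
  have h0 : ∀ z : B ⊗[R] B, (TensorProduct.lid R B) ((l.rTensor B) (TensorProduct.comm R B B z)) = sl l z := by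
    intro z
    induction z using TensorProduct.induction_on with
    | zero => simp
    | add a b ha hb => simp only [map_add, ha, hb]
    | tmul a b => simp
  have h1 := h.inv y
  rw [← h1, ← h0, Coalgebra.comm_comul]

theorem antipode_aux {ψ : B →ₗ[R] R} (hψ : Inv ψ) [Coalgebra.IsCocomm R B] (y : B) :
    ψ y = ψ t * l (HopfAlgebra.antipode R y) := by
  have h1 : (un y : B ⊗[R] B) * (1 ⊗ₜ t) = HopfAlgebra.antipode R y ⊗ₜ t := by
    have h2 : ∀ z : B ⊗[R] B, ((HopfAlgebra.antipode R (A := B)).rTensor B) z * (1 ⊗ₜ t) =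
        (HopfAlgebra.antipode R (A := B)) (TensorProduct.rid R B ((counit (R := R) (A := B)).lTensor B z)) ⊗ₜ t := by
      intro z
      induction z using TensorProduct.induction_on with
      | zero => simp
      | add a b ha hb => simp only [map_add, ha, hb, add_mul, add_tmul]
      | tmul a b =>
        rw [LinearMap.rTensor_tmul, Algebra.TensorProduct.tmul_mul_tmul, mul_one, h.mul, LinearMap.lTensor_tmul,
          TensorProduct.rid_tmul, map_smul, tmul_smul, smul_tmul']
    rw [un, h2, Coalgebra.lTensor_counit_comul]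
    simp
  have h3 : (sh : B ⊗[R] B →ₐ[B] B ⊗[R] B) (un y * (1 ⊗ₜ t)) = 1 ⊗ₜ y * comul (R := R) t := by
    rw [map_mul, sh_un, sh_tmul, show ((1 : B) ⊗ₜ[R] (1 : B)) = 1 from rfl, one_mul]
  have h4 : sl ψ (1 ⊗ₜ y * comul (R := R) t) = ψ t • HopfAlgebra.antipode R y := by
    rw [← h3, hψ.sl_sh, h1, sl_tmul]
  have h5 : ∀ z : B ⊗[R] B, l (sl ψ (1 ⊗ₜ y * z)) = ψ (y * (TensorProduct.lid R B) ((l.rTensor B) z)) := by
    intro z
    induction z using TensorProduct.induction_on with
    | zero => simp
    | add a b ha hb => simp only [map_add, ha, hb, mul_add]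
    | tmul a b =>
      rw [Algebra.TensorProduct.tmul_mul_tmul, one_mul, sl_tmul, map_smul, LinearMap.rTensor_tmul,
        TensorProduct.lid_tmul, mul_smul_comm, map_smul, smul_eq_mul, smul_eq_mul, mul_comm]
  have h6 := h5 (comul (R := R) t)
  rw [h4, h.inv', h.one, map_one, mul_one, map_smul, smul_eq_mul] at h6
  exact h6.symm

theorem antipode_eq [Coalgebra.IsCocomm R B] (y : B) : l (HopfAlgebra.antipode R y) = l y := by
  have := h.antipode_aux h.inv y
  rw [h.one, one_mul] at this
  exact this.symm

/-- Invariant functionals are unique up to scalars. -/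
theorem eq_smul {ψ : B →ₗ[R] R} (hψ : Inv ψ) [Coalgebra.IsCocomm R B] (y : B) : ψ y = ψ t * l y := by
  rw [h.antipode_aux hψ, h.antipode_eq]

theorem trace_t [Module.Free R B] [Module.Finite R B] : Algebra.trace R B t = counit (R := R) t := by
  have : LinearMap.mulLeft R t = (counit (R := R) (A := B)).smulRight t := by
    ext b
    rw [LinearMap.mulLeft_apply, LinearMap.smulRight_apply, mul_comm, h.mul]
  rw [Algebra.trace_apply, show Algebra.lmul R B t = LinearMap.mulLeft R t from rfl, this]
  exact LinearMap.trace_smulRight _ _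

theorem trace_eq [Module.Free R B] [Module.Finite R B] [Coalgebra.IsCocomm R B] (y : B) :
    Algebra.trace R B y = counit (R := R) t * l y := by
  rw [h.eq_smul inv_trace, h.trace_t]

theorem range_trace [Module.Free R B] [Module.Finite R B] [Coalgebra.IsCocomm R B] :
    (LinearMap.range (Algebra.trace R B) : Ideal R) = Ideal.span {counit (R := R) t} := by
  apply le_antisymm
  · rintro _ ⟨y, rfl⟩
    rw [h.trace_eq]
    exact Ideal.mul_mem_right _ _ (Ideal.subset_span rfl)
  · rw [Ideal.span_le, Set.singleton_subset_iff]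
    exact ⟨t, h.trace_t⟩

end IsInt

/-- Existence of integrals over a principal ideal domain in which the rank is not zero. -/
theorem exists_isInt [IsDomain R] [IsPrincipalIdealRing R] [Module.Free R B] [Module.Finite R B]
    (hn : ((Module.finrank R B : ℕ) : R) ≠ 0) : ∃ (l : B →ₗ[R] R) (t : B), IsInt l t := by
  classical
  let I : Ideal R := LinearMap.range (Algebra.trace R B)
  obtain ⟨a, ha⟩ := (IsPrincipalIdealRing.principal I).principal
  have h1 : ((Module.finrank R B : ℕ) : R) ∈ I := by
    refine ⟨1, ?_⟩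
    have := Algebra.trace_algebraMap (R := R) (S := B) (1 : R)
    rw [map_one] at this
    rw [this]; simp
  have ha0 : a ≠ 0 := by
    rintro rfl
    rw [ha] at h1
    simp at h1
    exact hn h1
  have h2 : ∀ y, ∃ c, Algebra.trace R B y = a * c := by
    intro y
    have : Algebra.trace R B y ∈ I := ⟨y, rfl⟩
    rw [ha] at this
    exact Ideal.mem_span_singleton.1 this
  choose c hc using h2
  let e := Module.Free.chooseBasis R B
  let l : B →ₗ[R] R := e.constr R (fun i => c (e i))
  have hl : Algebra.trace R B = a • l := by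
    refine e.ext fun i => ?_
    rw [LinearMap.smul_apply, Module.Basis.constr_basis, smul_eq_mul, hc]
  have hinv : Inv l := by
    refine Inv.of_smul (a := a) (fun x hx => ?_) (hl ▸ inv_trace)
    exact (smul_eq_zero.1 hx).resolve_left ha0
  have h3 : a ∈ I := by rw [ha]; exact Submodule.mem_span_singleton_self a
  obtain ⟨u, hu⟩ := h3
  have hu1 : l u = 1 := by
    rw [hl, LinearMap.smul_apply, smul_eq_mul] at hu
    exact mul_left_cancel₀ ha0 (hu.trans (mul_one a).symm)
  obtain ⟨t, ht⟩ := exists_isInt_of_inv hinv hu1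
  exact ⟨l, t, ht⟩

theorem finrank_ne_zero [IsDomain R] [CharZero R] [Module.Free R B] [Module.Finite R B] :
    ((Module.finrank R B : ℕ) : R) ≠ 0 := by
  rw [Nat.cast_ne_zero]
  have : Nontrivial B := by
    refine ⟨0, 1, fun h => ?_⟩
    have := congrArg (counit (R := R) (A := B)) h
    rw [map_zero, Bialgebra.counit_one] at this
    exact zero_ne_one this
  exact (Module.finrank_pos (R := R) (M := B)).ne'

end int

end K497.TrInt
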